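import Mathlib.RingTheory.LocalRing.MaximalIdeal.Basic
import Mathlib.RingTheory.Localization.AtPrime.Basic
import Mathlib.RingTheory.Localization.Away.Basic
import Mathlib.RingTheory.Valuation.ValuationRing
import Mathlib.RingTheory.Ideal.Quotient.Operations
import Mathlib.RingTheory.Localization.FractionRing

/-!
# Rings of points of the topos of modulus pairs
-/

set_option autoImplicit false
set_option linter.style.haveILetI false

universe u

namespace Groth.Agent.SigmaLocal

variable {A : Type u} [CommRing A] {t : A} (B : Type u) [CommRing B] [Algebra A B] [IsLocalization.Away t B]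

/-- Every finitely generated ideal containing a power of `t` is principal. -/
def PrincipalAbove (t : A) : Prop :=
  ∀ J : Ideal A, J.FG → (∃ n : ℕ, t ^ n ∈ J) → ∃ d, J = Ideal.span {d}

theorem exists_div [IsLocalRing A] (ht : t ∈ nonZeroDivisors A) (h : PrincipalAbove t) (f g : A) (n : ℕ)
    (hfg : t ^ n ∈ Ideal.span ({f, g} : Set A)) :
    ∃ d a b : A, f = d * a ∧ g = d * b ∧ (IsUnit a ∨ IsUnit b) ∧ ∃ c, d * c = t ^ n := by
  obtain ⟨d, hd⟩ := h _ (Submodule.fg_span (Set.toFinite _)) ⟨n, hfg⟩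
  have hf : f ∈ Ideal.span ({d} : Set A) := hd ▸ Ideal.subset_span (by simp)
  have hg : g ∈ Ideal.span ({d} : Set A) := hd ▸ Ideal.subset_span (by simp)
  obtain ⟨a, rfl⟩ := Ideal.mem_span_singleton'.1 hf
  obtain ⟨b, rfl⟩ := Ideal.mem_span_singleton'.1 hg
  obtain ⟨c, hc⟩ := Ideal.mem_span_singleton'.1 (hd ▸ hfg : t ^ n ∈ Ideal.span ({d} : Set A))
  have hd0 : d ∈ nonZeroDivisors A := by
    have : c * d ∈ nonZeroDivisors A := hc ▸ pow_mem ht n
    exact (mul_mem_nonZeroDivisors.1 this).2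
  have hdm : d ∈ Ideal.span ({a * d, b * d} : Set A) := by
    rw [show Ideal.span ({a * d, b * d} : Set A) = Ideal.span {d} from hd]
    exact Ideal.mem_span_singleton_self d
  obtain ⟨x, y, hxy⟩ := Ideal.mem_span_pair.1 hdm
  have h1 : x * a + y * b = 1 := by
    refine mul_cancel_right_mem_nonZeroDivisors hd0 |>.1 ?_
    rw [one_mul, add_mul, mul_assoc, mul_assoc, hxy]
  refine ⟨d, a, b, mul_comm _ _, mul_comm _ _, ?_, c, by rw [mul_comm, hc]⟩
  rcases IsLocalRing.isUnit_or_isUnit_of_add_one h1 with hu | hu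
  · exact Or.inl (isUnit_of_mul_isUnit_right hu)
  · exact Or.inr (isUnit_of_mul_isUnit_right hu)

include t in
theorem exists_mul_eq_pow {s : A} (hs : IsUnit (algebraMap A B s)) (ht : t ∈ nonZeroDivisors A) :
    ∃ (c : A) (n : ℕ), s * c = t ^ n := by
  obtain ⟨v, hv⟩ := hs.exists_right_inv
  obtain ⟨⟨c, m⟩, hc⟩ := IsLocalization.surj (Submonoid.powers t) v
  obtain ⟨k, hk⟩ := m.2
  refine ⟨c, k, ?_⟩
  have inj := IsLocalization.injective B (M := Submonoid.powers t) (Submonoid.powers_le.2 ht)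
  apply inj
  rw [map_mul, ← hc, ← mul_assoc, hv, one_mul]
  exact congrArg (algebraMap A B) hk.symm

include t in
theorem isUnit_of_mul_eq_pow {s c : A} {n : ℕ} (h : s * c = t ^ n) : IsUnit (algebraMap A B s) := by
  have : IsUnit (algebraMap A B (s * c)) := by
    rw [h, map_pow]
    exact (IsLocalization.Away.algebraMap_isUnit t).pow n
  rw [map_mul] at this
  exact isUnit_of_mul_isUnit_left this

theorem isLocalRing_away [IsLocalRing A] [Nontrivial B] (ht : t ∈ nonZeroDivisors A) (h : PrincipalAbove t) :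
    IsLocalRing B := by
  refine IsLocalRing.of_isUnit_or_isUnit_of_isUnit_add fun a b hab => ?_
  obtain ⟨⟨a', m⟩, ha⟩ := IsLocalization.surj (Submonoid.powers t) a
  obtain ⟨⟨b', k⟩, hb⟩ := IsLocalization.surj (Submonoid.powers t) b
  have hu : IsUnit (algebraMap A B (a' * k + b' * m)) := by
    rw [map_add, map_mul, map_mul, ← ha, ← hb]
    have : a * algebraMap A B m * algebraMap A B k + b * algebraMap A B k * algebraMap A B m =
        (a + b) * (algebraMap A B m * algebraMap A B k) := by ring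
    rw [this]
    exact hab.mul ((IsLocalization.map_units B m).mul (IsLocalization.map_units B k))
  obtain ⟨c, n, hc⟩ := exists_mul_eq_pow B hu ht
  have hmem : t ^ n ∈ Ideal.span ({a' * k, b' * m} : Set A) :=
    hc ▸ Ideal.mul_mem_right _ _ (Ideal.mem_span_pair.2 ⟨1, 1, by rw [one_mul, one_mul]⟩)
  obtain ⟨d, x, y, hx, hy, hor, e, he⟩ := exists_div ht h _ _ n hmem
  rcases hor with hor | hor
  · left
    have : IsUnit (algebraMap A B (a' * k)) := by
      rw [hx, map_mul]
      exact (isUnit_of_mul_eq_pow B he).mul (hor.map _)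
    rw [map_mul, ← ha] at this
    exact isUnit_of_mul_isUnit_left (isUnit_of_mul_isUnit_left this)
  · right
    have : IsUnit (algebraMap A B (b' * m)) := by
      rw [hy, map_mul]
      exact (isUnit_of_mul_eq_pow B he).mul (hor.map _)
    rw [map_mul, ← hb] at this
    exact isUnit_of_mul_isUnit_left (isUnit_of_mul_isUnit_left this)

variable [IsLocalRing B]

/-- The prime of the closed point of the interior. -/
abbrev cl : Ideal A := (IsLocalRing.maximalIdeal B).comap (algebraMap A B)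

theorem mem_cl {a : A} : a ∈ cl (A := A) B ↔ ¬ IsUnit (algebraMap A B a) := by
  rw [Ideal.mem_comap, IsLocalRing.mem_maximalIdeal]
  rfl

theorem dvd_of_mem [IsLocalRing A] (ht : t ∈ nonZeroDivisors A) (h : PrincipalAbove t) {x s : A}
    (hx : x ∈ cl (A := A) B) (hs : s ∉ cl (A := A) B) : ∃ y ∈ cl (A := A) B, x = s * y := by
  rw [mem_cl, not_not] at hs
  obtain ⟨c, n, hc⟩ := exists_mul_eq_pow B hs ht
  have hmem : t ^ n ∈ Ideal.span ({x * c, t ^ n} : Set A) := Ideal.subset_span (by simp)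
  obtain ⟨d, a, b, ha, hb, hor, e, he⟩ := exists_div ht h _ _ n hmem
  have hd : IsUnit (algebraMap A B d) := isUnit_of_mul_eq_pow B he
  have hacl : a ∈ cl (A := A) B := by
    rw [mem_cl]
    intro hu
    have : IsUnit (algebraMap A B (x * c)) := by
      rw [ha, map_mul]
      exact hd.mul hu
    rw [map_mul] at this
    exact (mem_cl (A := A) B).1 hx (isUnit_of_mul_isUnit_left this)
  have hbu : IsUnit b := hor.resolve_left fun hu => (mem_cl (A := A) B).1 hacl (hu.map _)
  obtain ⟨b', hb'⟩ := hbu.exists_right_inv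
  refine ⟨b' * a, Ideal.mul_mem_left _ _ hacl, ?_⟩
  refine mul_cancel_right_mem_nonZeroDivisors (pow_mem ht n) |>.1 ?_
  calc x * t ^ n = s * (x * c) := by rw [← hc]; ring
    _ = s * (d * a) * (b * b') := by rw [ha, hb', mul_one]
    _ = s * (b' * a) * (d * b) := by ring
    _ = s * (b' * a) * t ^ n := by rw [hb]

theorem valuationRing_quotient [IsLocalRing A] (ht : t ∈ nonZeroDivisors A) (h : PrincipalAbove t) :
    haveI : (cl (A := A) B).IsPrime := Ideal.comap_isPrime _ _
    ValuationRing (A ⧸ cl (A := A) B) := by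
  haveI : (cl (A := A) B).IsPrime := Ideal.comap_isPrime _ _
  rw [ValuationRing.iff_dvd_total]
  refine ⟨Ideal.Quotient.mk_surjective.forall.2 fun a => Ideal.Quotient.mk_surjective.forall.2 fun b => ?_⟩
  by_cases ha : a ∈ cl (A := A) B
  · exact Or.inr ⟨0, by rw [mul_zero, Ideal.Quotient.eq_zero_iff_mem.2 ha]⟩
  rw [mem_cl, not_not] at ha
  obtain ⟨c, n, hc⟩ := exists_mul_eq_pow B ha ht
  have hmem : t ^ n ∈ Ideal.span ({a, b} : Set A) := hc ▸ Ideal.mul_mem_right _ _ (Ideal.subset_span (by simp))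
  obtain ⟨d, x, y, rfl, rfl, hor, -⟩ := exists_div ht h _ _ n hmem
  rcases hor with hor | hor
  · exact Or.inl (map_dvd (Ideal.Quotient.mk _) (mul_dvd_mul_left d hor.dvd))
  · exact Or.inr (map_dvd (Ideal.Quotient.mk _) (mul_dvd_mul_left d hor.dvd))

include t in
theorem bijOn_atPrime (ht : t ∈ nonZeroDivisors A)
    (hdiv : ∀ x s : A, x ∈ cl (A := A) B → s ∉ cl (A := A) B → ∃ y ∈ cl (A := A) B, x = s * y) (q : Ideal A) [q.IsPrime] (hq : q = cl (A := A) B) :
    Set.BijOn (algebraMap A (Localization.AtPrime q)) (q : Set A)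
      (IsLocalRing.maximalIdeal (Localization.AtPrime q) : Set (Localization.AtPrime q)) := by
  subst hq
  refine ⟨fun x hx => ?_, fun x _ y _ hxy => ?_, fun z hz => ?_⟩
  · exact (IsLocalization.AtPrime.to_map_mem_maximal_iff (Localization.AtPrime (cl (A := A) B)) (cl (A := A) B) x).2 hx
  · obtain ⟨s, hs⟩ := (IsLocalization.eq_iff_exists (cl (A := A) B).primeCompl _).1 hxy
    have hs' : IsUnit (algebraMap A B (s : A)) := by
      have := s.2
      rwa [Ideal.mem_primeCompl_iff, mem_cl, not_not] at this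
    obtain ⟨c, n, hc⟩ := exists_mul_eq_pow B hs' ht
    refine mul_cancel_left_mem_nonZeroDivisors (pow_mem ht n) |>.1 ?_
    rw [← hc, mul_comm (s : A), mul_assoc, mul_assoc, hs]
  · obtain ⟨x, s, rfl⟩ := IsLocalization.exists_mk'_eq (cl (A := A) B).primeCompl z
    have hx : x ∈ cl (A := A) B :=
      (IsLocalization.AtPrime.mk'_mem_maximal_iff (Localization.AtPrime (cl (A := A) B)) (cl (A := A) B) x s).1 hz
    obtain ⟨y, hy, hxy⟩ := hdiv x s hx s.2
    refine ⟨y, hy, ?_⟩
    rw [eq_comm, IsLocalization.mk'_eq_iff_eq_mul, ← map_mul, hxy, mul_comm]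

theorem dvd_of_bijOn (q : Ideal A) [q.IsPrime] (hq : q = cl (A := A) B)
    (h : Set.BijOn (algebraMap A (Localization.AtPrime q)) (q : Set A)
      (IsLocalRing.maximalIdeal (Localization.AtPrime q) : Set (Localization.AtPrime q))) :
    ∀ x s : A, x ∈ cl (A := A) B → s ∉ cl (A := A) B → ∃ y ∈ cl (A := A) B, x = s * y := by
  subst hq
  intro x s hx hs
  obtain ⟨y, hy, hyz⟩ := h.surjOn ((IsLocalization.AtPrime.mk'_mem_maximal_iff (Localization.AtPrime (cl (A := A) B))
    (cl (A := A) B) x ⟨s, hs⟩).2 hx)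
  refine ⟨y, hy, h.injOn hx (Ideal.mul_mem_left _ _ hy) ?_⟩
  rw [eq_comm, IsLocalization.mk'_eq_iff_eq_mul] at hyz
  rw [hyz, map_mul, mul_comm]

/-- A ring glued from the valuation ring and the interior. -/
theorem exists_lift_glue (ht : t ∈ nonZeroDivisors A)
    (hdiv : ∀ x s : A, x ∈ cl (A := A) B → s ∉ cl (A := A) B → ∃ y ∈ cl (A := A) B, x = s * y)
    {K : Type u} [CommRing K] (f : A ⧸ cl (A := A) B →+* K) (g : B →+* K)
    (hfg : f.comp (Ideal.Quotient.mk (cl (A := A) B)) = g.comp (algebraMap A B)) (hf : Function.Injective f)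
    {C : Type u} [CommRing C] (φ : C →+* A ⧸ cl (A := A) B) (ψ : C →+* B) (h : f.comp φ = g.comp ψ) :
    ∃ θ : C →+* A, (algebraMap A B).comp θ = ψ := by
  have inj := IsLocalization.injective B (M := Submonoid.powers t) (Submonoid.powers_le.2 ht)
  have hmem : ∀ c, ∃ a, algebraMap A B a = ψ c := by
    intro c
    obtain ⟨a₀, ha₀⟩ := Ideal.Quotient.mk_surjective (φ c)
    obtain ⟨⟨x, m⟩, hx⟩ := IsLocalization.surj (Submonoid.powers t) (ψ c - algebraMap A B a₀)
    have hg : g (ψ c - algebraMap A B a₀) = 0 := by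
      rw [map_sub, sub_eq_zero, ← RingHom.comp_apply g, ← h, ← RingHom.comp_apply g, ← hfg, RingHom.comp_apply,
        RingHom.comp_apply, ha₀]
    have hxcl : x ∈ cl (A := A) B := by
      rw [← Ideal.Quotient.eq_zero_iff_mem]
      refine hf ?_
      rw [map_zero, ← RingHom.comp_apply f, hfg, RingHom.comp_apply, ← hx, map_mul, hg, zero_mul]
    have hm : (m : A) ∉ cl (A := A) B := by
      rw [mem_cl, not_not]
      exact IsLocalization.map_units B m
    obtain ⟨y, -, hy⟩ := hdiv x m hxcl hm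
    refine ⟨y + a₀, ?_⟩
    rw [map_add, ← eq_sub_iff_add_eq]
    refine (IsLocalization.map_units B m).mul_right_cancel ?_
    rw [hx, hy, map_mul, mul_comm]
  choose θ hθ using hmem
  refine ⟨{ toFun := θ, map_one' := inj ?_, map_mul' := fun a b => inj ?_, map_zero' := inj ?_,
            map_add' := fun a b => inj ?_ }, RingHom.ext fun c => hθ c⟩
  · rw [hθ, map_one, map_one]
  · rw [hθ, map_mul, map_mul, hθ, hθ]
  · rw [hθ, map_zero, map_zero]
  · rw [hθ, map_add, map_add, hθ, hθ]

end Groth.Agent.SigmaLocal
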