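import Groth.Agent.Lib.SigmaLocal.Algebra
import Groth.Agent.Lib.Hens.Local
import Groth.Prelude.Def_EtBase
import Mathlib.Algebra.Polynomial.Taylor
import Mathlib.FieldTheory.IsSepClosed

/-!
# The interior of a point of the étale topos of modulus pairs is henselian
-/

set_option autoImplicit false
set_option linter.style.haveILetI false

universe u

open Polynomial

namespace Groth.Agent.SigmaLocal

variable {A : Type u} [CommRing A] {t : A} (B : Type u) [CommRing B] [Algebra A B] [IsLocalization.Away t B]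
  [IsLocalRing B]

include t in
theorem exists_lift_mem (hdiv : ∀ x s : A, x ∈ cl B → s ∉ cl B → ∃ y ∈ cl B, x = s * y) {x : B}
    (hx : x ∈ IsLocalRing.maximalIdeal B) : ∃ y ∈ cl B, algebraMap A B y = x := by
  obtain ⟨⟨a, m⟩, ha⟩ := IsLocalization.surj (Submonoid.powers t) x
  have hm : (m : A) ∉ cl B := by
    rw [mem_cl, not_not]
    exact IsLocalization.map_units B m
  have hacl : a ∈ cl B := by
    rw [Ideal.mem_comap, ← ha]
    exact Ideal.mul_mem_right _ _ hx
  obtain ⟨y, hy, hay⟩ := hdiv a m hacl hm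
  refine ⟨y, hy, (IsLocalization.map_units B m).mul_right_cancel ?_⟩
  rw [ha, hay, map_mul, mul_comm]

include t in
theorem henselian_away [HenselianLocalRing A]
    (hdiv : ∀ x s : A, x ∈ cl B → s ∉ cl B → ∃ y ∈ cl B, x = s * y) : HenselianLocalRing B where
  is_henselian f hf a₀ h0 hu := by
    have hq : cl (A := A) B ≤ IsLocalRing.maximalIdeal A := fun y hy => by
      rw [mem_cl] at hy
      exact (IsLocalRing.mem_maximalIdeal y).2 fun h => hy (h.map _)
    obtain ⟨c, hc⟩ : ∃ c : ℕ → B, c = (taylor a₀ f).coeff := ⟨_, rfl⟩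
    have hc0 : c 0 = f.eval a₀ := by rw [hc, taylor_coeff_zero]
    have hc1 : c 1 = f.derivative.eval a₀ := by rw [hc, taylor_coeff_one]
    obtain ⟨d, hd⟩ : ∃ d, c 1 * d = 1 := (hc1 ▸ hu).exists_right_inv
    have hc0m : c 0 ∈ IsLocalRing.maximalIdeal B := hc0 ▸ h0
    have he : ∀ k, ∃ y ∈ cl (A := A) B, algebraMap A B y = c (k + 2) * (-d) ^ (k + 2) * c 0 ^ (k + 1) := fun k =>
      exists_lift_mem (t := t) B hdiv (Ideal.mul_mem_left _ _ (Ideal.pow_mem_of_mem _ hc0m _ (Nat.succ_pos k)))
    choose y hy hye using he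
    let n := f.natDegree
    let R : A[X] := ∑ k ∈ Finset.range (n + 1), C (y k) * X ^ (n - k)
    let h : A[X] := X ^ (n + 2) + (R - X ^ (n + 1))
    have hdeg : (R - X ^ (n + 1)).degree < ((n + 2 : ℕ) : WithBot ℕ) := by
      refine lt_of_le_of_lt (degree_sub_le _ _) (max_lt (lt_of_le_of_lt (degree_sum_le _ _) ?_) ?_)
      · refine (Finset.sup_lt_iff (WithBot.bot_lt_coe _)).2 fun k _ => ?_
        exact lt_of_le_of_lt (degree_C_mul_X_pow_le _ _) (by exact_mod_cast (by omega : n - k < n + 2))
      · exact lt_of_le_of_lt (degree_X_pow_le _) (by exact_mod_cast (by omega : n + 1 < n + 2))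
    have hmon : h.Monic := monic_X_pow_add hdeg
    have hR : R.eval 1 ∈ IsLocalRing.maximalIdeal A := by
      simp only [R, eval_finsetSum, eval_mul, eval_C, eval_pow, eval_X, one_pow, mul_one]
      exact Ideal.sum_mem _ fun k _ => hq (hy k)
    have hR' : R.derivative.eval 1 ∈ IsLocalRing.maximalIdeal A := by
      simp only [R, derivative_sum, derivative_C_mul, derivative_X_pow, eval_finsetSum, eval_mul, eval_C,
        eval_pow, eval_X, one_pow, mul_one]
      exact Ideal.sum_mem _ fun k _ => Ideal.mul_mem_right _ _ (hq (hy k))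
    obtain ⟨v, hv, hv1⟩ := HenselianLocalRing.is_henselian h hmon 1
      (by simpa [h] using hR)
      (by
        have e : h.derivative.eval 1 = 1 + R.derivative.eval 1 := by
          simp [h, derivative_X_pow]
          ring
        rw [e]
        by_contra hnu
        have := sub_mem ((IsLocalRing.mem_maximalIdeal _).2 hnu) hR'
        rw [add_sub_cancel_right] at this
        exact (IsLocalRing.maximalIdeal.isMaximal A).ne_top ((Ideal.eq_top_iff_one _).2 this))
    have hvu : IsUnit v := by
      by_contra hnu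
      have := sub_mem ((IsLocalRing.mem_maximalIdeal _).2 hnu) hv1
      rw [sub_sub_cancel] at this
      exact (IsLocalRing.maximalIdeal.isMaximal A).ne_top ((Ideal.eq_top_iff_one _).2 this)
    obtain ⟨w, hw⟩ := hvu.exists_right_inv
    obtain ⟨W, hW⟩ : ∃ W, W = algebraMap A B w := ⟨_, rfl⟩
    have hVW : algebraMap A B v * W = 1 := by rw [hW, ← map_mul, hw, map_one]
    refine ⟨a₀ + c 0 * (-d) * W, ?_, by
      rw [add_sub_cancel_left]
      exact Ideal.mul_mem_right _ _ (Ideal.mul_mem_right _ _ hc0m)⟩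
    have hsum : f.eval (a₀ + c 0 * (-d) * W) =
        ∑ k ∈ Finset.range (n + 1 + 2), c k * (c 0 * (-d) * W) ^ k := by
      rw [add_comm, ← taylor_eval, hc]
      refine eval_eq_sum_range' ?_ _
      rw [natDegree_taylor]
      omega
    rw [IsRoot.def, hsum, Finset.sum_range_succ', Finset.sum_range_succ']
    simp only [zero_add, pow_zero, mul_one, pow_one]
    have hv' : algebraMap A B (v ^ (n + 2) + (∑ k ∈ Finset.range (n + 1), y k * v ^ (n - k)) - v ^ (n + 1)) = 0 := by
      have := hv
      rw [IsRoot.def] at this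
      simp only [h, R, eval_add, eval_sub, eval_pow, eval_X, eval_finsetSum, eval_mul, eval_C] at this
      rw [add_sub_assoc, this, map_zero]
    rw [map_sub, map_add, map_sum, map_pow, map_pow] at hv'
    simp only [map_mul, map_pow] at hv'
    obtain ⟨V, hV⟩ : ∃ V, V = algebraMap A B v := ⟨_, rfl⟩
    rw [← hV] at hVW hv'
    have h1 : ∀ m, V ^ m * W ^ m = 1 := fun m => by rw [← mul_pow, hVW, one_pow]
    have hsummand : ∀ k ∈ Finset.range (n + 1), c (k + 1 + 1) * (c 0 * (-d) * W) ^ (k + 1 + 1) =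
        c 0 * W ^ (n + 2) * (algebraMap A B (y k) * V ^ (n - k)) := fun k hk => by
      have hk' : k ≤ n := by have := Finset.mem_range.1 hk; omega
      rw [hye]
      have e2 : W ^ (n + 2) * V ^ (n - k) = W ^ (k + 2) := by
        rw [show n + 2 = (k + 2) + (n - k) by omega, pow_add, mul_assoc, mul_comm (W ^ (n - k)), h1, mul_one]
      calc c (k + 1 + 1) * (c 0 * -d * W) ^ (k + 1 + 1)
          = c 0 * (c (k + 2) * (-d) ^ (k + 2) * c 0 ^ (k + 1)) * W ^ (k + 2) := by ring
        _ = _ := by rw [← e2]; ring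
    rw [Finset.sum_congr rfl hsummand, ← Finset.mul_sum]
    have e3 : c 1 * (c 0 * -d * W) + c 0 = c 0 * W ^ (n + 2) * (V ^ (n + 2) - V ^ (n + 1)) := by
      have : W ^ (n + 2) * V ^ (n + 1) = W := by
        rw [show n + 2 = 1 + (n + 1) by omega, pow_add, mul_assoc, mul_comm (W ^ (n + 1)), h1, mul_one, pow_one]
      calc c 1 * (c 0 * -d * W) + c 0 = -(c 1 * d) * (c 0 * W) + c 0 := by ring
        _ = c 0 * (V ^ (n + 2) * W ^ (n + 2)) - c 0 * (W ^ (n + 2) * V ^ (n + 1)) := by
          rw [hd, h1, this]; ring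
        _ = _ := by ring
    rw [add_assoc, e3, ← mul_add, ← mul_zero (c 0 * W ^ (n + 2))]
    congr 1
    rw [← hv']
    ring

/-- A quotient of a strictly henselian local ring is strictly henselian. -/
theorem strictlyHenselian_quotient {R : Type u} [CommRing R] (h : EtCoh.IsStrictlyHenselianLocalRing R)
    (I : Ideal R) (hI : I ≠ ⊤) : EtCoh.IsStrictlyHenselianLocalRing (R ⧸ I) := by
  obtain ⟨hH, hs⟩ := h
  haveI := hH
  haveI := hs
  haveI : Nontrivial (R ⧸ I) := Ideal.Quotient.nontrivial_iff.2 hI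
  haveI : IsLocalRing (R ⧸ I) := IsLocalRing.of_surjective' _ Ideal.Quotient.mk_surjective
  haveI hHq : HenselianLocalRing (R ⧸ I) := Hens.henselianLocalRing_of_isIntegral R _
  refine ⟨hHq, ?_⟩
  haveI : IsLocalHom (Ideal.Quotient.mk I) := IsLocalHom.of_surjective _ Ideal.Quotient.mk_surjective
  let g := IsLocalRing.ResidueField.map (Ideal.Quotient.mk I)
  have hg : Function.Surjective g := fun z => by
    obtain ⟨z, rfl⟩ := IsLocalRing.residue_surjective z
    obtain ⟨z, rfl⟩ := Ideal.Quotient.mk_surjective z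
    exact ⟨IsLocalRing.residue R z, rfl⟩
  let e : IsLocalRing.ResidueField R ≃+* IsLocalRing.ResidueField (R ⧸ I) :=
    RingEquiv.ofBijective g ⟨g.injective, hg⟩
  refine IsSepClosed.of_exists_root _ fun p hp hirr hsep => ?_
  obtain ⟨z, hz⟩ := IsSepClosed.exists_eval₂_eq_zero e.symm.toRingHom p hirr.degree_pos.ne' hsep
  refine ⟨e z, ?_⟩
  have := congrArg e.toRingHom hz
  rw [hom_eval₂, map_zero, RingEquiv.toRingHom_comp_symm_toRingHom, ← eval] at this
  exact this

end Groth.Agent.SigmaLocal
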