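import Groth.Agent.Lib.SigmaLocal.Geometry
import Groth.Agent.Lib.SigmaLocal.Henselian
import Groth.Agent.Lib.EtStalk.Henselian
import Groth.Agent.Lib.WLocal.SH

/-!
# Modulus pairs local for étale coverings
-/

set_option autoImplicit false
set_option linter.style.haveILetI false
set_option linter.unusedSectionVars false
set_option maxHeartbeats 800000
set_option backward.isDefEq.respectTransparency false
set_option backward.isDefEq.respectTransparency.types false

universe u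

open CategoryTheory CategoryTheory.Limits AlgebraicGeometry TopologicalSpace

noncomputable section

namespace Groth.Agent.SigmaLocal

/-- Locality for étale coverings. -/
abbrev EtLocal (P : ModPair.Pair.{u}) : Prop :=
  ∀ (X : ModPair.Pair.{u}) (ι : Type u) (U : ι → ModPair.Pair.{u}) (v : ∀ i, U i ⟶ X),
    (∀ i, ModPair.IsMinimal (U i).mod X.mod (v i).hom ∧ Etale (v i).hom ∧ QuasiCompact (v i).hom ∧
      QuasiSeparated (v i).hom) →
    (∀ x : X.total, ∃ (i : ι) (y : (U i).total), (v i).hom.base y = x) →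
    ∀ g : P ⟶ X, ∃ (i : ι) (h : P ⟶ U i), h ≫ v i = g

theorem zarLocal_of_etLocal {P : ModPair.Pair.{u}} (h : EtLocal P) : ZarLocal P := fun X ι U v hv =>
  h X ι U v fun i => by
    haveI := (hv i).2.1
    exact ⟨(hv i).1, inferInstance, (hv i).2.2, inferInstance⟩

theorem hasEtaleRetractions {P : ModPair.Pair.{u}} [IsAffine P.total] (h : EtLocal P) :
    ProEtW.HasEtaleRetractions Γ(P.total, ⊤) := by
  intro D _ _ hff het
  haveI := hff; haveI := het
  let φ : Γ(P.total, ⊤) ⟶ CommRingCat.of D := CommRingCat.ofHom (algebraMap Γ(P.total, ⊤) D)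
  haveI : AlgebraicGeometry.Etale (Spec.map φ) :=
    HasRingHomProperty.Spec_iff.2 (RingHom.etale_algebraMap.2 het)
  let w : Spec (CommRingCat.of D) ⟶ P.total := Spec.map φ ≫ P.total.isoSpec.inv
  haveI : AlgebraicGeometry.Etale w := inferInstanceAs (AlgebraicGeometry.Etale (Spec.map φ ≫ P.total.isoSpec.inv))
  let U : ModPair.Pair.{u} := ⟨Spec (CommRingCat.of D), P.mod.comap w,
    BlowUp26.isEffCartierIdeal_comap_flat P.isEffCartier w⟩
  let v : U ⟶ P := ⟨w, le_of_eq rfl⟩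
  obtain ⟨-, g, hg⟩ := h P PUnit.{u + 1} (fun _ => U) (fun _ => v)
    (fun _ => ⟨rfl, ‹AlgebraicGeometry.Etale w›, inferInstanceAs (QuasiCompact w),
      inferInstanceAs (QuasiSeparated w)⟩)
    (fun x => by
      obtain ⟨y, hy⟩ := PrimeSpectrum.comap_surjective_of_faithfullyFlat (A := Γ(P.total, ⊤)) (B := D)
        (P.total.isoSpec.hom x)
      refine ⟨⟨⟩, y, ?_⟩
      show P.total.isoSpec.inv (PrimeSpectrum.comap (algebraMap Γ(P.total, ⊤) D) y) = x
      rw [hy, ← Scheme.Hom.comp_apply, Iso.hom_inv_id]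
      rfl) (𝟙 P)
  have hg' : g.hom ≫ w = 𝟙 _ := congrArg ModPair.Pair.Hom.hom hg
  obtain ⟨χ, hχ⟩ := Spec.map_surjective (P.total.isoSpec.inv ≫ g.hom)
  have hid : φ ≫ χ = 𝟙 _ := Spec.map_injective (by
    rw [Spec.map_comp, Spec.map_id, hχ, ← cancel_mono P.total.isoSpec.inv, Category.assoc, Category.assoc,
      Category.id_comp]
    show _ ≫ g.hom ≫ w = _
    rw [hg', Category.comp_id])
  exact ⟨{ χ.hom with commutes' := fun a => congr($hid a) }⟩

theorem etLocal_of_strictlyHenselian {P : ModPair.Pair.{u}} [IsAffine P.total]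
    (hA : EtCoh.IsStrictlyHenselianLocalRing Γ(P.total, ⊤)) : EtLocal P := by
  obtain ⟨hH, hs⟩ := hA
  haveI := hH; haveI := hs
  intro X ι U v hv hcov g
  let e := P.total.isoSpec
  obtain ⟨i, y, hy⟩ := hcov (g.hom (e.inv (IsLocalRing.closedPoint Γ(P.total, ⊤))))
  haveI := (hv i).2.1
  let f : pullback (v i).hom (e.inv ≫ g.hom) ⟶ Spec Γ(P.total, ⊤) := pullback.snd _ _
  haveI : AlgebraicGeometry.Etale f := MorphismProperty.pullback_snd (P := @AlgebraicGeometry.Etale) _ _ ‹_›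
  let W : (Spec (CommRingCat.of Γ(P.total, ⊤))).Etale := Scheme.Etale.mk f
  obtain ⟨z, -, hz⟩ := Scheme.Pullback.exists_preimage_pullback (f := (v i).hom) (g := e.inv ≫ g.hom) y
    (IsLocalRing.closedPoint Γ(P.total, ⊤)) hy
  have hdef : EtStalk.closedPt Γ(P.total, ⊤) default = IsLocalRing.closedPoint Γ(P.total, ⊤) := by
    refine PrimeSpectrum.ext (IsLocalRing.eq_maximalIdeal ?_)
    obtain ⟨d, hd⟩ : ∃ d : PrimeSpectrum (IsLocalRing.ResidueField Γ(P.total, ⊤)),
        EtStalk.closedPt Γ(P.total, ⊤) default = PrimeSpectrum.comap (IsLocalRing.residue Γ(P.total, ⊤)) d :=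
      ⟨_, rfl⟩
    rw [hd]
    haveI : d.asIdeal.IsMaximal := Ideal.isMaximal_of_isPrime _
    exact Ideal.comap_isMaximal_of_surjective _ IsLocalRing.residue_surjective

  obtain ⟨φ, -⟩ := Scheme.pointSmallEtaleFiberObjToPreimage_surjective (EtStalk.closedPt Γ(P.total, ⊤))
    (s₀ := EtStalk.closedPt Γ(P.total, ⊤) default) rfl W ⟨z, hz.trans hdef.symm⟩
  obtain ⟨σ, -⟩ := EtStalk.exists_section Γ(P.total, ⊤) φ
  have hσ : (σ.left : Spec Γ(P.total, ⊤) ⟶ _) ≫ f = 𝟙 _ := MorphismProperty.Over.w σ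
  have hl : (e.hom ≫ σ.left ≫ pullback.fst (v i).hom (e.inv ≫ g.hom)) ≫ (v i).hom = g.hom := by
    show (e.hom ≫ (σ.left : Spec Γ(P.total, ⊤) ⟶ _) ≫ pullback.fst _ _) ≫ _ = _
    rw [Category.assoc, Category.assoc, pullback.condition, reassoc_of% hσ, Iso.hom_inv_id_assoc]
  refine ⟨i, ⟨_, ?_⟩, ModPair.Pair.Hom.ext hl⟩
  show P.mod ≤ (U i).mod.comap _
  rw [show (U i).mod = X.mod.comap (v i).hom from (hv i).1, ← Scheme.IdealSheafData.comap_comp, hl]
  exact g.cond

end Groth.Agent.SigmaLocal
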