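import Groth.Agent.Lib.SigmaLocal.Geometry
import Groth.Agent.Lib.AIC6.Basic
import Groth.Agent.S19345

/-!
# Modulus pairs local for finite coverings
-/

set_option autoImplicit false
set_option linter.style.haveILetI false
set_option linter.unusedSectionVars false
set_option maxHeartbeats 800000
set_option backward.isDefEq.respectTransparency false
set_option backward.isDefEq.respectTransparency.types false

universe u

open CategoryTheory CategoryTheory.Limits AlgebraicGeometry TopologicalSpace Polynomial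

noncomputable section

namespace Groth.Agent.SigmaLocal

/-- Locality for finite coverings. -/
abbrev FinLocal (P : ModPair.Pair.{u}) : Prop :=
  ∀ (X : ModPair.Pair.{u}) (ι : Type u) (U : ι → ModPair.Pair.{u}) (v : ∀ i, U i ⟶ X),
    (∀ i, ModPair.IsMinimal (U i).mod X.mod (v i).hom ∧ IsFinite (v i).hom) →
    (∀ x : X.total, ∃ (i : ι) (y : (U i).total), (v i).hom.base y = x) →
    ∀ g : P ⟶ X, ∃ (i : ι) (h : P ⟶ U i), h ≫ v i = g

variable {P : ModPair.Pair.{u}} [IsAffine P.total]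

theorem finite_retraction (h : FinLocal P) {t : Γ(P.total, ⊤)} (ht0 : t ∈ nonZeroDivisors Γ(P.total, ⊤))
    (hgen : P.mod.ideal ⟨⊤, isAffineOpen_top P.total⟩ = Ideal.span {t})
    {ι : Type u} (D : ι → CommRingCat.{u}) (φ : ∀ i, Γ(P.total, ⊤) ⟶ D i)
    (hfin : ∀ i, (φ i).hom.Finite) (ht : ∀ i, φ i t ∈ nonZeroDivisors (D i))
    (hcov : ∀ x : PrimeSpectrum Γ(P.total, ⊤), ∃ (i : ι) (y : PrimeSpectrum (D i)),
      PrimeSpectrum.comap (φ i).hom y = x) :
    ∃ (i : ι) (χ : D i ⟶ Γ(P.total, ⊤)), φ i ≫ χ = 𝟙 _ := by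
  let w : ∀ i, Spec (D i) ⟶ P.total := fun i => Spec.map (φ i) ≫ P.total.isoSpec.inv
  have hw : ∀ i, (w i).appLE ⊤ ⊤ le_top t ∈ nonZeroDivisors Γ(Spec (D i), ⊤) := by
    intro i
    have h1 : (w i).appTop = φ i ≫ (Scheme.ΓSpecIso (D i)).inv := by
      rw [Scheme.ΓSpecIso_inv_naturality]
      simp only [w, Scheme.Hom.comp_appTop]
      congr 1
      simp [Scheme.isoSpec, Scheme.toSpecΓ_appTop]
    have h2 : (w i).appLE ⊤ ⊤ le_top t = (Scheme.ΓSpecIso (D i)).inv (φ i t) := by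
      show _ = (φ i ≫ (Scheme.ΓSpecIso (D i)).inv) t
      rw [← h1, Scheme.Hom.appTop, Scheme.Hom.app_eq_appLE]
      rfl
    rw [h2]
    let E : D i ≃+* Γ(Spec (D i), ⊤) := (Scheme.ΓSpecIso (D i)).symm.commRingCatIsoToRingEquiv
    show E (φ i t) ∈ _
    rw [mem_nonZeroDivisors_iff_right]
    intro z hz
    have h3 := mem_nonZeroDivisors_iff_right.1 (ht i) (E.symm z) (by
      apply E.injective
      rw [map_mul, RingEquiv.apply_symm_apply, map_zero, hz])
    exact E.symm.map_eq_zero_iff.1 h3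
  have hEC : ∀ i, BlowUp.IsEffCartierIdeal (P.mod.comap (w i)) := fun i x =>
    ⟨⟨⊤, isAffineOpen_top _⟩, trivial, _, hw i,
      EffCartier.comap_ideal_eq_span (U := ⟨⊤, isAffineOpen_top P.total⟩)
        ⟨ht0, hgen⟩ (w i) ⟨⊤, isAffineOpen_top _⟩ le_top⟩
  let U : ι → ModPair.Pair.{u} := fun i => ⟨Spec (D i), P.mod.comap (w i), hEC i⟩
  let v : ∀ i, U i ⟶ P := fun i => ⟨w i, le_of_eq rfl⟩
  obtain ⟨i, g, hg⟩ := h P ι U v
    (fun i => ⟨rfl, by
      haveI : IsFinite (Spec.map (φ i)) := (IsFinite.SpecMap_iff _).2 (hfin i)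
      exact inferInstanceAs (IsFinite (Spec.map (φ i) ≫ P.total.isoSpec.inv))⟩)
    (fun x => by
      obtain ⟨i, y, hy⟩ := hcov (P.total.isoSpec.hom x)
      refine ⟨i, y, ?_⟩
      show P.total.isoSpec.inv (PrimeSpectrum.comap (φ i).hom y) = x
      rw [hy, ← Scheme.Hom.comp_apply, Iso.hom_inv_id]
      rfl) (𝟙 P)
  have hg' : g.hom ≫ w i = 𝟙 _ := congrArg ModPair.Pair.Hom.hom hg
  obtain ⟨χ, hχ⟩ := Spec.map_surjective (P.total.isoSpec.inv ≫ g.hom)
  refine ⟨i, χ, Spec.map_injective ?_⟩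
  rw [Spec.map_comp, Spec.map_id, hχ, ← cancel_mono P.total.isoSpec.inv, Category.assoc, Category.assoc,
    Category.id_comp]
  show _ ≫ g.hom ≫ w i = _
  rw [hg', Category.comp_id]

theorem isDomain_of_finLocal (h : FinLocal P) {t : Γ(P.total, ⊤)} (ht : t ∈ nonZeroDivisors Γ(P.total, ⊤))
    (hgen : P.mod.ideal ⟨⊤, isAffineOpen_top P.total⟩ = Ideal.span {t}) [Nontrivial Γ(P.total, ⊤)] :
    IsDomain Γ(P.total, ⊤) := by
  obtain ⟨p, χ, hχ⟩ := finite_retraction h ht hgen (ι := (minimalPrimes Γ(P.total, ⊤) : Set (Ideal Γ(P.total, ⊤))))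
    (fun p => CommRingCat.of (Γ(P.total, ⊤) ⧸ p.1)) (fun p => CommRingCat.ofHom (Ideal.Quotient.mk p.1))
    (fun p => RingHom.Finite.of_surjective _ Ideal.Quotient.mk_surjective)
    (fun p => by
      haveI : p.1.IsPrime := p.2.1.1
      refine mem_nonZeroDivisors_of_ne_zero fun h0 => ?_
      exact Set.disjoint_left.1 (Ideal.disjoint_nonZeroDivisors_of_mem_minimalPrimes p.2)
        (Ideal.Quotient.eq_zero_iff_mem.1 h0) ht)
    (fun x => by
      obtain ⟨p, hp, hle⟩ := Ideal.exists_minimalPrimes_le (I := (⊥ : Ideal Γ(P.total, ⊤))) (J := x.asIdeal) bot_le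
      refine ⟨⟨p, hp⟩, ?_⟩
      refine ⟨⟨x.asIdeal.map (Ideal.Quotient.mk p),
        Ideal.map_isPrime_of_surjective Ideal.Quotient.mk_surjective (by rwa [Ideal.mk_ker])⟩, ?_⟩
      apply PrimeSpectrum.ext
      show Ideal.comap (Ideal.Quotient.mk p) (x.asIdeal.map (Ideal.Quotient.mk p)) = x.asIdeal
      rw [Ideal.comap_map_of_surjective _ Ideal.Quotient.mk_surjective, ← RingHom.ker_eq_comap_bot,
        Ideal.mk_ker, sup_eq_left]
      exact hle)
  haveI : p.1.IsPrime := p.2.1.1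
  have hinj : Function.Injective (Ideal.Quotient.mk p.1) :=
    Function.LeftInverse.injective (g := χ.hom) fun x => congr($hχ x)
  exact hinj.isDomain _

theorem isAIC_of_finLocal (h : FinLocal P) {t : Γ(P.total, ⊤)} (ht : t ∈ nonZeroDivisors Γ(P.total, ⊤))
    (hgen : P.mod.ideal ⟨⊤, isAffineOpen_top P.total⟩ = Ideal.span {t}) [Nontrivial Γ(P.total, ⊤)] :
    Curves.IsAIC Γ(P.total, ⊤) := by
  intro f hf hdeg
  haveI : Module.Finite Γ(P.total, ⊤) (AdjoinRoot f) := hf.finite_adjoinRoot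
  haveI : Module.Free Γ(P.total, ⊤) (AdjoinRoot f) := hf.free_adjoinRoot
  obtain ⟨-, χ, hχ⟩ := finite_retraction h ht hgen (ι := PUnit.{u + 1}) (fun _ => CommRingCat.of (AdjoinRoot f))
    (fun _ => CommRingCat.ofHom (AdjoinRoot.of f)) (fun _ => RingHom.finite_algebraMap.2 inferInstance)
    (fun _ => by
      show algebraMap Γ(P.total, ⊤) (AdjoinRoot f) t ∈ _
      rw [mem_nonZeroDivisors_iff_right]
      intro z hz
      let b := Module.Free.chooseBasis Γ(P.total, ⊤) (AdjoinRoot f)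
      refine b.ext_elem fun j => ?_
      have h0 : t • z = 0 := by rw [Algebra.smul_def, mul_comm, hz]
      have h1 := congrArg (fun v => b.repr v j) h0
      simp only [map_smul, map_zero, Finsupp.smul_apply, Finsupp.zero_apply, smul_eq_mul] at h1
      rw [map_zero, Finsupp.zero_apply]
      exact mem_nonZeroDivisors_iff_right.1 ht _ (by rw [mul_comm]; exact h1))
    (fun x => by
      have hinj : Function.Injective (algebraMap Γ(P.total, ⊤) (AdjoinRoot f)) := fun a b hab => by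
        by_contra hne
        exact hf.not_dvd_of_natDegree_lt (C_ne_zero.2 (sub_ne_zero.2 hne)) (by rwa [natDegree_C])
          (AdjoinRoot.mk_eq_zero.1 (by rw [map_sub, map_sub, sub_eq_zero]; exact hab))
      obtain ⟨y, hy⟩ := (show (algebraMap Γ(P.total, ⊤) (AdjoinRoot f)).IsIntegral from
        Algebra.IsIntegral.isIntegral).comap_surjective hinj x
      exact ⟨⟨⟩, y, hy⟩)
  refine ⟨χ (AdjoinRoot.root f), ?_⟩
  have h0 := congrArg χ.hom (AdjoinRoot.eval₂_root f)
  rw [map_zero, hom_eval₂] at h0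
  rw [← h0, Polynomial.eval, eval₂_congr]
  all_goals first | rfl | exact (RingHom.ext fun x => congr($hχ x)).symm

theorem finLocal_of_aic [IsDomain Γ(P.total, ⊤)] (hA : Curves.IsAIC Γ(P.total, ⊤)) : FinLocal P := by
  intro X ι U v hv hcov g
  let e := P.total.isoSpec
  let η : P.total := e.inv ⟨⊥, Ideal.isPrime_bot⟩
  obtain ⟨i, y, hy⟩ := hcov (g.hom η)
  haveI := (hv i).2
  let Q := pullback (v i).hom g.hom
  let q : Q ⟶ P.total := pullback.snd (v i).hom g.hom
  haveI : IsFinite q := MorphismProperty.pullback_snd _ _ ‹IsFinite (v i).hom›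
  haveI : IsAffine Q := isAffine_of_isAffineHom q
  obtain ⟨z, -, hz⟩ := Scheme.Pullback.exists_preimage_pullback (f := (v i).hom) (g := g.hom) y η hy
  obtain ⟨φ, hφ⟩ := Spec.map_surjective (Q.isoSpec.inv ≫ q ≫ e.hom)
  have hfin : φ.hom.Finite := by
    have : IsFinite (Spec.map φ) := by rw [hφ]; infer_instance
    rwa [IsFinite.SpecMap_iff] at this
  let 𝔮 := Q.isoSpec.hom z
  have hbot : Ideal.comap φ.hom 𝔮.asIdeal = ⊥ := by
    have : Spec.map φ 𝔮 = e.hom η := by
      rw [hφ]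
      show e.hom (q ((Q.isoSpec.hom ≫ Q.isoSpec.inv) z)) = e.hom η
      rw [Iso.hom_inv_id]
      exact congrArg e.hom hz
    have he : e.hom η = ⟨⊥, Ideal.isPrime_bot⟩ := by
      show (e.inv ≫ e.hom) _ = _
      rw [e.inv_hom_id]; rfl
    exact congrArg PrimeSpectrum.asIdeal (this.trans he)
  let ψ : Γ(P.total, ⊤) →+* Γ(Q, ⊤) ⧸ 𝔮.asIdeal := (Ideal.Quotient.mk _).comp φ.hom
  have hinj : Function.Injective ψ := by
    rw [RingHom.injective_iff_ker_eq_bot, ← RingHom.comap_ker, Ideal.mk_ker]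
    exact hbot
  have hsurj : Function.Surjective ψ := fun d => by
    obtain ⟨b, rfl⟩ := Ideal.Quotient.mk_surjective d
    obtain ⟨f, hf, hfb⟩ := hfin.to_isIntegral b
    exact Groth.Agent.S19345.mem_range_of_aic hA ψ _ _ f rfl hf (by rw [← hom_eval₂, hfb, map_zero])
  let E := RingEquiv.ofBijective ψ ⟨hinj, hsurj⟩
  let χ : Γ(Q, ⊤) ⟶ Γ(P.total, ⊤) :=
    CommRingCat.ofHom (E.symm.toRingHom.comp (Ideal.Quotient.mk 𝔮.asIdeal))
  have hid : φ ≫ χ = 𝟙 _ := CommRingCat.hom_ext (RingHom.ext fun a => E.symm_apply_apply a)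
  let s : P.total ⟶ Q := e.hom ≫ Spec.map χ ≫ Q.isoSpec.inv
  have hs : s ≫ q = 𝟙 _ := by
    rw [← cancel_mono e.hom]
    simp only [s, Category.assoc, ← hφ, ← Spec.map_comp, hid, Spec.map_id]
    simp
  have hl : (s ≫ pullback.fst (v i).hom g.hom) ≫ (v i).hom = g.hom := by
    rw [Category.assoc, pullback.condition, ← Category.assoc, hs, Category.id_comp]
  refine ⟨i, ⟨s ≫ pullback.fst _ _, ?_⟩, ModPair.Pair.Hom.ext hl⟩
  show P.mod ≤ (U i).mod.comap _
  rw [show (U i).mod = X.mod.comap (v i).hom from (hv i).1, ← Scheme.IdealSheafData.comap_comp, hl]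
  exact g.cond

end Groth.Agent.SigmaLocal
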