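import Groth.Agent.Lib.SigmaLocal.Algebra
import Mathlib.RingTheory.OrzechProperty
import Mathlib.RingTheory.Nakayama
import Mathlib.RingTheory.Flat.FaithfullyFlat.Basic
import Mathlib.LinearAlgebra.Basis.Submodule
import Mathlib.Algebra.Algebra.Subalgebra.Basic
import Mathlib.RingTheory.Flat.Basic
import Mathlib.RingTheory.LocalRing.Module

/-!
# Finite free algebras over the interior come from finite free algebras over the total space
-/

set_option autoImplicit false
set_option linter.style.haveILetI false

universe u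

namespace Groth.Agent.SigmaLocal

/-- A basis of a finite free algebra over a local ring, containing the unit. -/
theorem exists_basis_one {B E : Type u} [CommRing B] [IsLocalRing B] [CommRing E] [Nontrivial E] [Algebra B E]
    [Module.Finite B E] [Module.Free B E] :
    ∃ (ι : Type u) (_ : Fintype ι) (i₀ : ι) (b : Module.Basis ι B E), b i₀ = 1 := by
  classical
  let ι := Module.Free.ChooseBasisIndex B E
  let b := Module.Free.chooseBasis B E
  obtain ⟨i₀, hi⟩ : ∃ i, IsUnit (b.repr 1 i) := by
    by_contra hne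
    push Not at hne
    have h1 : (1 : E) ∈ IsLocalRing.maximalIdeal B • (⊤ : Submodule B E) := by
      rw [← b.sum_repr 1]
      exact Submodule.sum_mem _ fun i _ =>
        Submodule.smul_mem_smul ((IsLocalRing.mem_maximalIdeal _).2 (hne i)) trivial
    have h2 : (⊤ : Submodule B E) = ⊥ := by
      refine Submodule.eq_bot_of_le_smul_of_le_jacobson_bot (IsLocalRing.maximalIdeal B) ⊤ Module.Finite.fg_top ?_
        (IsLocalRing.maximalIdeal_le_jacobson _)
      intro x _
      have : x = (LinearMap.mulLeft B x) 1 := (mul_one x).symm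
      rw [this]
      refine Submodule.smul_induction_on h1 (fun r hr n _ => ?_) (fun y z hy hz => ?_)
      · rw [map_smul]
        exact Submodule.smul_mem_smul hr trivial
      · rw [map_add]
        exact add_mem hy hz
    exact one_ne_zero ((Submodule.mem_bot B).1 (h2 ▸ Submodule.mem_top : (1 : E) ∈ (⊥ : Submodule B E)))
  let T : E →ₗ[B] E := b.constr B (Function.update (fun i => b i) i₀ 1)
  have hT : ∀ i, T (b i) = Function.update (fun i => b i) i₀ 1 i := fun i => b.constr_basis B _ i
  have hsurj : Function.Surjective T := by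
    rw [← LinearMap.range_eq_top, eq_top_iff, ← b.span_eq, Submodule.span_le]
    have hmem : ∀ i, i ≠ i₀ → b i ∈ LinearMap.range T := fun i h =>
      ⟨b i, by rw [hT, Function.update_of_ne h]⟩
    rintro _ ⟨i, rfl⟩
    by_cases h : i = i₀
    · subst h
      obtain ⟨v, hv⟩ := hi.exists_left_inv
      have h1 : (1 : E) ∈ LinearMap.range T := ⟨b i, by rw [hT, Function.update_self]⟩
      have h2 : ∑ j ∈ Finset.univ.erase i, b.repr 1 j • b j ∈ LinearMap.range T :=
        Submodule.sum_mem _ fun j hj => Submodule.smul_mem _ _ (hmem j (Finset.ne_of_mem_erase hj))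
      have h3 := Submodule.smul_mem _ v (Submodule.sub_mem _ h1 h2)
      have h4 : (1 : E) - ∑ j ∈ Finset.univ.erase i, b.repr 1 j • b j = b.repr 1 i • b i := by
        rw [sub_eq_iff_eq_add, Finset.add_sum_erase _ (fun j => b.repr 1 j • b j) (Finset.mem_univ i), b.sum_repr]
      rw [h4, smul_smul, hv, one_smul] at h3
      exact h3
    · exact hmem i h
  refine ⟨ι, inferInstance, i₀, b.map (LinearEquiv.ofBijective T
    ⟨OrzechProperty.injective_of_surjective_endomorphism T hsurj, hsurj⟩), ?_⟩
  rw [Module.Basis.map_apply]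
  show T (b i₀) = 1
  rw [hT, Function.update_self]

variable {A : Type u} [CommRing A] {t : A} (B : Type u) [CommRing B] [Algebra A B] [IsLocalization.Away t B]

include t in
theorem exists_pow_clear (c : B) : ∃ n : ℕ, ∀ m, n ≤ m → ∃ a : A, algebraMap A B a = algebraMap A B t ^ m * c := by
  obtain ⟨⟨a, s⟩, ha⟩ := IsLocalization.surj (Submonoid.powers t) c
  obtain ⟨n, hn⟩ := s.2
  refine ⟨n, fun m hm => ⟨t ^ (m - n) * a, ?_⟩⟩
  rw [map_mul, map_pow, ← ha, show (s : A) = t ^ n from hn.symm, map_pow, mul_comm c, ← mul_assoc, ← pow_add,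
    Nat.sub_add_cancel hm]

include t in
/-- Retractions of finite free algebras over `A` give retractions of those over `A[1/t]`. -/
theorem retraction_away [IsLocalRing B] (ht : t ∈ nonZeroDivisors A)
    (H : ∀ (L : Type u) [CommRing L] [Algebra A L] [Module.Finite A L] [Module.Free A L] [Module.FaithfullyFlat A L],
      Nonempty (L →ₐ[A] A))
    (E : Type u) [CommRing E] [Nontrivial E] [Algebra B E] [Module.Finite B E] [Module.Free B E] :
    Nonempty (E →ₐ[B] B) := by
  classical
  letI : Algebra A E := Algebra.compHom E (algebraMap A B)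
  haveI : IsScalarTower A B E := IsScalarTower.of_algebraMap_eq' rfl
  obtain ⟨ι, hι, i₀, b, hb⟩ := exists_basis_one (B := B) (E := E)
  haveI := hι
  haveI : Nonempty ι := ⟨i₀⟩
  choose N hN using fun (p : ι × ι × ι) => exists_pow_clear (t := t) B (b.repr (b p.1 * b p.2.1) p.2.2)
  let M := Finset.univ.sup N
  have hM : ∀ k l m (j : ℕ), M ≤ j → ∃ a : A, algebraMap A B a = algebraMap A B t ^ j * b.repr (b k * b l) m :=
    fun k l m j hj => hN (k, l, m) j ((Finset.le_sup (f := N) (Finset.mem_univ (k, l, m))).trans hj)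
  let u : B := algebraMap A B t ^ M
  have hu : IsUnit u := (IsLocalization.Away.algebraMap_isUnit t).pow M
  let w : ι → Bˣ := fun i => if i = i₀ then 1 else hu.unit
  let b' : Module.Basis ι B E := b.unitsSMul w
  have hw₀ : b' i₀ = 1 := by
    simp [b', w, Module.Basis.unitsSMul_apply, hb]
  have hwne : ∀ i, i ≠ i₀ → b' i = u • b i := fun i h => by
    simp [b', w, h, Module.Basis.unitsSMul_apply, Units.smul_def]
  have inj := IsLocalization.injective B (M := Submonoid.powers t) (Submonoid.powers_le.2 ht)
  have hli : LinearIndependent A b' := b'.linearIndependent.restrict_scalars (by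
    intro x y hxy
    refine inj ?_
    simpa [Algebra.smul_def] using hxy)
  let L₀ : Submodule A E := Submodule.span A (Set.range b')
  have hone : (1 : E) ∈ L₀ := hw₀ ▸ Submodule.subset_span ⟨i₀, rfl⟩
  have hgen : ∀ k l, b' k * b' l ∈ L₀ := by
    intro k l
    by_cases hk : k = i₀
    · subst hk; rw [hw₀, one_mul]; exact Submodule.subset_span ⟨l, rfl⟩
    by_cases hl : l = i₀
    · subst hl; rw [hw₀, mul_one]; exact Submodule.subset_span ⟨k, rfl⟩
    rw [hwne k hk, hwne l hl, smul_mul_smul_comm, ← b.sum_repr (b k * b l), Finset.smul_sum]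
    refine Submodule.sum_mem _ fun m _ => ?_
    rw [smul_smul]
    by_cases hm : m = i₀
    · obtain ⟨a, ha⟩ := hM k l m (M + M) (Nat.le_add_right _ _)
      subst hm
      rw [hb, show u * u * b.repr (b k * b l) m = algebraMap A B a by rw [ha, pow_add]]
      rw [algebraMap_smul]
      exact Submodule.smul_mem _ _ hone
    · obtain ⟨a, ha⟩ := hM k l m M le_rfl
      rw [show u * u * b.repr (b k * b l) m = algebraMap A B a * u by rw [ha]; ring, mul_smul, ← hwne m hm,
        algebraMap_smul]
      exact Submodule.smul_mem _ _ (Submodule.subset_span ⟨m, rfl⟩)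
  have hmul : ∀ x y, x ∈ L₀ → y ∈ L₀ → x * y ∈ L₀ := by
    intro x y hx hy
    have h1 : ∀ k, ∀ y ∈ L₀, b' k * y ∈ L₀ := fun k y hy => by
      induction hy using Submodule.span_induction with
      | mem z hz => obtain ⟨l, rfl⟩ := hz; exact hgen k l
      | zero => rw [mul_zero]; exact zero_mem _
      | add z z' _ _ h h' => rw [mul_add]; exact add_mem h h'
      | smul r z _ h => rw [mul_smul_comm]; exact Submodule.smul_mem _ _ h
    induction hx using Submodule.span_induction with
    | mem z hz => obtain ⟨k, rfl⟩ := hz; exact h1 k y hy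
    | zero => rw [zero_mul]; exact zero_mem _
    | add z z' _ _ h h' => rw [add_mul]; exact add_mem h h'
    | smul r z _ h => rw [smul_mul_assoc]; exact Submodule.smul_mem _ _ h
  let L : Subalgebra A E := L₀.toSubalgebra hone hmul
  let bL : Module.Basis ι A L :=
    (Module.Basis.span hli).map ((LinearEquiv.refl A L₀).trans (Subalgebra.toSubmoduleEquiv L))
  haveI : Module.Finite A L := Module.Finite.of_basis bL
  haveI : Module.Free A L := Module.Free.of_basis bL
  haveI : Nontrivial L := ⟨⟨0, 1, fun h => zero_ne_one (congrArg Subtype.val h)⟩⟩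
  haveI : Module.FaithfullyFlat A L := inferInstance
  obtain ⟨χ⟩ := H L
  have hmem : ∀ i, b' i ∈ L := fun i => Submodule.subset_span ⟨i, rfl⟩
  let ρ : E →ₗ[B] B := b'.constr B fun i => algebraMap A B (χ ⟨b' i, hmem i⟩)
  have hρ : ∀ x : L, ρ x = algebraMap A B (χ x) := by
    intro x
    obtain ⟨x, hx⟩ := x
    have hx' : x ∈ L₀ := hx
    induction hx' using Submodule.span_induction with
    | mem z hz =>
      obtain ⟨k, rfl⟩ := hz
      exact b'.constr_basis B _ k
    | zero =>
      rw [map_zero]
      exact ((congrArg (algebraMap A B) (map_zero χ)).trans (map_zero _)).symm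
    | add z z' hz hz' h h' =>
      rw [map_add, h hz, h' hz', ← map_add, ← map_add]
      rfl
    | smul r z hz h =>
      have e : (⟨r • z, hx⟩ : L) = r • (⟨z, hz⟩ : L) := Subtype.ext rfl
      rw [LinearMap.map_smul_of_tower, h hz, e, map_smul, smul_eq_mul, map_mul, Algebra.smul_def]
  refine ⟨AlgHom.ofLinearMap ρ ?_ ?_⟩
  · rw [← hw₀, show ρ (b' i₀) = ρ ((⟨b' i₀, hmem i₀⟩ : L) : E) from rfl, hρ,
      show (⟨b' i₀, hmem i₀⟩ : L) = 1 from Subtype.ext hw₀, map_one, map_one]
  · intro x y
    let F : E →ₗ[B] E →ₗ[B] B := (LinearMap.mul B E).compr₂ ρ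
    let G : E →ₗ[B] E →ₗ[B] B := (LinearMap.mul B B).compl₁₂ ρ ρ
    have hFG : F = G := b'.ext fun k => b'.ext fun l => by
      show ρ ((⟨b' k, hmem k⟩ * ⟨b' l, hmem l⟩ : L) : E) =
        ρ ((⟨b' k, hmem k⟩ : L) : E) * ρ ((⟨b' l, hmem l⟩ : L) : E)
      rw [hρ, hρ, hρ, map_mul, map_mul]
    exact congrArg (fun q : E →ₗ[B] E →ₗ[B] B => q x y) hFG

end Groth.Agent.SigmaLocal
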