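import Groth.Agent.Lib.SigmaLocal.Etale
import Groth.Agent.Lib.SigmaLocal.Lattice
import Groth.Agent.S19345
import Groth.Agent.S19339
import Groth.Agent.Lib.Hens.Pair
import Mathlib.RingTheory.Finiteness.ModuleFinitePresentation

/-!
# Modulus pairs local for fppf coverings
-/

set_option autoImplicit false
set_option linter.style.haveILetI false
set_option linter.unusedSectionVars false
set_option maxHeartbeats 800000
set_option backward.isDefEq.respectTransparency false
set_option backward.isDefEq.respectTransparency.types false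

universe u

open CategoryTheory CategoryTheory.Limits AlgebraicGeometry TopologicalSpace

noncomputable section

namespace Groth.Agent.SigmaLocal

/-- The class of fppf morphisms. -/
abbrev FppfCov : MorphismProperty Scheme.{u} :=
  @Flat ⊓ @LocallyOfFinitePresentation ⊓ @QuasiCompact ⊓ @QuasiSeparated

/-- Locality of a scheme for fppf coverings. -/
abbrev SchFppfLocal (T : Scheme.{u}) : Prop :=
  ∀ (X : Scheme.{u}) (R : Presieve X), R ∈ Scheme.precoverage (FppfCov.{u}) X →
    ∀ g : T ⟶ X, ∃ (Y : Scheme.{u}) (w : Y ⟶ X) (h : T ⟶ Y), R w ∧ h ≫ w = g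

/-- Locality for fppf coverings. -/
abbrev FppfLocal (P : ModPair.Pair.{u}) : Prop :=
  ∀ (X : ModPair.Pair.{u}) (ι : Type u) (U : ι → ModPair.Pair.{u}) (v : ∀ i, U i ⟶ X),
    (∀ i, ModPair.IsMinimal (U i).mod X.mod (v i).hom ∧ Flat (v i).hom ∧
      LocallyOfFinitePresentation (v i).hom ∧ QuasiCompact (v i).hom ∧ QuasiSeparated (v i).hom) →
    (∀ x : X.total, ∃ (i : ι) (y : (U i).total), (v i).hom.base y = x) →
    ∀ g : P ⟶ X, ∃ (i : ι) (h : P ⟶ U i), h ≫ v i = g

theorem schFppf_of_fppfLocal {P : ModPair.Pair.{u}} (h : FppfLocal P) : SchFppfLocal P.total := by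
  intro X R hR g
  choose Y w y hwR hwP hwy using fun p : P.total => Groth.Agent.S19345.exists_mem hR (g p)
  haveI : ∀ p, Flat (w p) := fun p => (hwP p).1.1.1
  haveI : ∀ p, LocallyOfFinitePresentation (w p) := fun p => (hwP p).1.1.2
  haveI : ∀ p, QuasiCompact (w p) := fun p => (hwP p).1.2
  haveI : ∀ p, QuasiSeparated (w p) := fun p => (hwP p).2
  let v : ∀ p, pullback (w p) g ⟶ P.total := fun p => pullback.snd _ _
  haveI : ∀ p, Flat (v p) := fun p => MorphismProperty.pullback_snd (P := @Flat) _ _ inferInstance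
  let U : P.total → ModPair.Pair.{u} := fun p =>
    ⟨pullback (w p) g, P.mod.comap (v p), BlowUp26.isEffCartierIdeal_comap_flat P.isEffCartier (v p)⟩
  obtain ⟨p, k, hk⟩ := h P P.total U (fun p => ⟨v p, le_of_eq rfl⟩)
    (fun p => ⟨rfl, inferInstanceAs (Flat (v p)),
      MorphismProperty.pullback_snd (P := @LocallyOfFinitePresentation) (w p) g inferInstance,
      MorphismProperty.pullback_snd (P := @QuasiCompact) (w p) g inferInstance,
      MorphismProperty.pullback_snd (P := @QuasiSeparated) (w p) g inferInstance⟩)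
    (fun x => by
      obtain ⟨z, -, hz⟩ := Scheme.Pullback.exists_preimage_pullback (f := w x) (g := g) (y x) x (hwy x)
      exact ⟨x, z, hz⟩) (𝟙 P)
  have hk' : k.hom ≫ v p = 𝟙 _ := congrArg ModPair.Pair.Hom.hom hk
  exact ⟨_, w p, k.hom ≫ pullback.fst (w p) g, hwR p, by
    rw [Category.assoc, pullback.condition, ← Category.assoc, hk', Category.id_comp]⟩

theorem fppfLocal_of_sch {P : ModPair.Pair.{u}} (h : SchFppfLocal P.total) : FppfLocal P := by
  intro X ι U v hv hcov g
  have hR : Presieve.ofArrows (fun i => (U i).total) (fun i => (v i).hom) ∈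
      Scheme.precoverage (FppfCov.{u}) X.total := by
    rw [Scheme.ofArrows_mem_precoverage_iff]
    exact ⟨fun x => hcov x, fun i => ⟨⟨⟨(hv i).2.1, (hv i).2.2.1⟩, (hv i).2.2.2.1⟩, (hv i).2.2.2.2⟩⟩
  obtain ⟨Y, w, k, ⟨i⟩, hk⟩ := h _ _ hR g.hom
  refine ⟨i, ⟨k, ?_⟩, ModPair.Pair.Hom.ext hk⟩
  show P.mod ≤ (U i).mod.comap k
  rw [show (U i).mod = X.mod.comap (v i).hom from (hv i).1, ← Scheme.IdealSheafData.comap_comp, hk]
  exact g.cond

theorem zarLocal_of_fppfLocal {P : ModPair.Pair.{u}} (h : FppfLocal P) : ZarLocal P := fun X ι U v hv =>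
  h X ι U v fun i => by
    haveI := (hv i).2.1
    exact ⟨(hv i).1, inferInstance, inferInstance, (hv i).2.2, inferInstance⟩

theorem etLocal_of_fppfLocal {P : ModPair.Pair.{u}} (h : FppfLocal P) : EtLocal P := fun X ι U v hv =>
  h X ι U v fun i => by
    haveI := (hv i).2.1
    exact ⟨(hv i).1, inferInstance, inferInstance, (hv i).2.2.1, (hv i).2.2.2⟩

theorem freeRetractions {P : ModPair.Pair.{u}} [IsAffine P.total] (h : FppfLocal P)
    (D : Type u) [CommRing D] [Algebra Γ(P.total, ⊤) D] [Module.Finite Γ(P.total, ⊤) D]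
    [Module.Free Γ(P.total, ⊤) D] [Module.FaithfullyFlat Γ(P.total, ⊤) D] :
    Nonempty (D →ₐ[Γ(P.total, ⊤)] Γ(P.total, ⊤)) := by
  let φ : Γ(P.total, ⊤) ⟶ CommRingCat.of D := CommRingCat.ofHom (algebraMap Γ(P.total, ⊤) D)
  haveI : Module.FinitePresentation Γ(P.total, ⊤) D := Module.finitePresentation_of_projective _ _
  haveI : Algebra.FinitePresentation Γ(P.total, ⊤) D := inferInstance
  haveI : Flat (Spec.map φ) := Flat.SpecMap_iff.mpr (RingHom.flat_algebraMap_iff.mpr inferInstance)
  haveI : LocallyOfFinitePresentation (Spec.map φ) :=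
    (HasRingHomProperty.Spec_iff (P := @LocallyOfFinitePresentation)).mpr
      (RingHom.finitePresentation_algebraMap.mpr inferInstance)
  let w : Spec (CommRingCat.of D) ⟶ P.total := Spec.map φ ≫ P.total.isoSpec.inv
  haveI : Flat w := inferInstanceAs (Flat (Spec.map φ ≫ P.total.isoSpec.inv))
  let U : ModPair.Pair.{u} := ⟨Spec (CommRingCat.of D), P.mod.comap w,
    BlowUp26.isEffCartierIdeal_comap_flat P.isEffCartier w⟩
  let v : U ⟶ P := ⟨w, le_of_eq rfl⟩
  obtain ⟨-, g, hg⟩ := h P PUnit.{u + 1} (fun _ => U) (fun _ => v)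
    (fun _ => ⟨rfl, ‹Flat w›,
      inferInstanceAs (LocallyOfFinitePresentation (Spec.map φ ≫ P.total.isoSpec.inv)),
      inferInstanceAs (QuasiCompact w), inferInstanceAs (QuasiSeparated w)⟩)
    (fun x => by
      obtain ⟨y, hy⟩ := PrimeSpectrum.comap_surjective_of_faithfullyFlat (A := Γ(P.total, ⊤)) (B := D)
        (P.total.isoSpec.hom x)
      refine ⟨⟨⟩, y, ?_⟩
      show P.total.isoSpec.inv (PrimeSpectrum.comap (algebraMap Γ(P.total, ⊤) D) y) = x
      rw [hy, ← Scheme.Hom.comp_apply, Iso.hom_inv_id]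
      rfl) (𝟙 P)
  have hg' : g.hom ≫ w = 𝟙 _ := congrArg ModPair.Pair.Hom.hom hg
  obtain ⟨χ, hχ⟩ := Spec.map_surjective (P.total.isoSpec.inv ≫ g.hom)
  have hid : φ ≫ χ = 𝟙 _ := Spec.map_injective (by
    rw [Spec.map_comp, Spec.map_id, hχ, ← cancel_mono P.total.isoSpec.inv, Category.assoc, Category.assoc,
      Category.id_comp]
    show _ ≫ g.hom ≫ w = _
    rw [hg', Category.comp_id])
  exact ⟨{ χ.hom with commutes' := fun a => congr($hid a) }⟩

/-- An étale morphism has a section through a point with trivial residue field over the closed point. -/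
theorem exists_section_trivial (B : Type u) [CommRing B] [HenselianLocalRing B] {U : Scheme.{u}}
    (f : U ⟶ Spec (CommRingCat.of B)) [Etale f] (y : U) (hy : f y = IsLocalRing.closedPoint B)
    (hres : IsIso (f.residueFieldMap y)) : ∃ s : Spec (CommRingCat.of B) ⟶ U, s ≫ f = 𝟙 _ := by
  haveI := hres
  let r : Spec (CommRingCat.of (IsLocalRing.ResidueField B)) ⟶ Spec (CommRingCat.of B) :=
    Spec.map (CommRingCat.ofHom (IsLocalRing.residue B))
  obtain ⟨x, γ, hr, hx⟩ : ∃ (x : Spec (CommRingCat.of B)) (γ : (Spec (CommRingCat.of B)).residueField x ⟶ CommRingCat.of (IsLocalRing.ResidueField B)),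
      r = Spec.map γ ≫ (Spec (CommRingCat.of B)).fromSpecResidueField x ∧ x = IsLocalRing.closedPoint B := by
    refine ⟨_, _, ((Scheme.SpecToEquivOfField _ _).symm_apply_apply r).symm, ?_⟩
    refine PrimeSpectrum.ext (IsLocalRing.eq_maximalIdeal ?_)
    show (Ideal.comap (IsLocalRing.residue B)
      (IsLocalRing.closedPoint (IsLocalRing.ResidueField B)).asIdeal).IsMaximal
    exact Ideal.comap_isMaximal_of_surjective _ IsLocalRing.residue_surjective
  obtain rfl : x = f y := hx.trans hy.symm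
  let φl : Spec (CommRingCat.of (IsLocalRing.ResidueField B)) ⟶ U :=
    Spec.map (inv (f.residueFieldMap y) ≫ γ) ≫ U.fromSpecResidueField y
  have hφl : φl ≫ f = r := by
    rw [hr]
    simp only [φl, Category.assoc]
    rw [← Scheme.Hom.SpecMap_residueFieldMap_fromSpecResidueField, ← Spec.map_comp_assoc, IsIso.hom_inv_id_assoc]
  obtain ⟨E, j, hj, hmem, -⟩ := Scheme.exists_affine_mem_range_and_range_subset
    (x := φl default) (U := ⊤) (Set.mem_univ _)
  have hsub : Set.range φl ⊆ Set.range j := by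
    rintro _ ⟨a, rfl⟩
    rwa [Subsingleton.elim a default]
  obtain ⟨b, hb⟩ := Spec.map_surjective (IsOpenImmersion.lift j φl hsub)
  obtain ⟨a, ha⟩ := Spec.map_surjective (j ≫ f)
  letI : Algebra B E := a.hom.toAlgebra
  haveI : AlgebraicGeometry.Etale (Spec.map a) := by rw [ha]; infer_instance
  haveI : Algebra.Etale B E := HasRingHomProperty.Spec_iff.1 ‹AlgebraicGeometry.Etale (Spec.map a)›
  have hab : a ≫ b = CommRingCat.ofHom (IsLocalRing.residue B) := Spec.map_injective (by
    rw [Spec.map_comp, hb, ha, IsOpenImmersion.lift_fac_assoc, hφl])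
  let s₀ : E →ₐ[B] B ⧸ IsLocalRing.maximalIdeal B :=
    { b.hom with commutes' := fun r => congrArg (fun t => t.hom r) hab }
  obtain ⟨τ, -⟩ := Hens.etaleLift_of_henselianRing (Hens.henselianRing_maximalIdeal B) E s₀
  have hat : a ≫ CommRingCat.ofHom τ.toRingHom = 𝟙 _ := by
    ext r
    exact τ.commutes r
  refine ⟨Spec.map (CommRingCat.ofHom τ.toRingHom) ≫ j, ?_⟩
  rw [Category.assoc, ← ha, ← Spec.map_comp, hat, Spec.map_id]

theorem schFppf_of_henselian (B : Type u) [CommRing B] [HenselianLocalRing B]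
    (H : ∀ (E : Type u) [CommRing E] [Nontrivial E] [Algebra B E] [Module.Finite B E] [Module.Free B E],
      Nonempty (E →ₐ[B] B)) : SchFppfLocal (Spec (CommRingCat.of B)) := by
  intro X R hR g
  choose Y w y hwR hwP hwy using fun p : Spec (CommRingCat.of B) => Groth.Agent.S19345.exists_mem hR (g p)
  have hR' : Presieve.ofArrows (fun p => pullback (w p) g) (fun p => pullback.snd (w p) g) ∈
      Scheme.precoverage (FppfCov.{u}) (Spec (CommRingCat.of B)) := by
    rw [Scheme.ofArrows_mem_precoverage_iff]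
    refine ⟨fun x => ?_, fun p => ⟨⟨⟨MorphismProperty.pullback_snd (P := @Flat) _ _ (hwP p).1.1.1,
      MorphismProperty.pullback_snd (P := @LocallyOfFinitePresentation) _ _ (hwP p).1.1.2⟩,
      MorphismProperty.pullback_snd (P := @QuasiCompact) _ _ (hwP p).1.2⟩,
      MorphismProperty.pullback_snd (P := @QuasiSeparated) _ _ (hwP p).2⟩⟩
    obtain ⟨z, -, hz⟩ := Scheme.Pullback.exists_preimage_pullback (f := w x) (g := g) (y x) x (hwy x)
    exact ⟨x, z, hz⟩
  obtain ⟨κ, U, V, u, v, hu, hpt, hv, hfac⟩ := Groth.Agent.S19339.result _ _ hR'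
  obtain ⟨k, z, hz, hzres⟩ := hpt (IsLocalRing.closedPoint B)
  haveI := hu k
  obtain ⟨s, hs⟩ := exists_section_trivial B (u k) z hz hzres
  haveI := (hv k).1; haveI := (hv k).2.1; haveI := (hv k).2.2
  let Q := pullback (v k) s
  let q : Q ⟶ Spec (CommRingCat.of B) := pullback.snd _ _
  haveI : IsFinite q := MorphismProperty.pullback_snd (P := @IsFinite) _ _ inferInstance
  haveI : Flat q := MorphismProperty.pullback_snd (P := @Flat) _ _ inferInstance
  haveI : Surjective q := MorphismProperty.pullback_snd (P := @Surjective) _ _ inferInstance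
  haveI : IsAffine Q := isAffine_of_isAffineHom q
  obtain ⟨φ, hφ⟩ := Spec.map_surjective (Q.isoSpec.inv ≫ q)
  letI : Algebra B Γ(Q, ⊤) := φ.hom.toAlgebra
  haveI : Module.Finite B Γ(Q, ⊤) := by
    have : IsFinite (Spec.map φ) := by rw [hφ]; infer_instance
    rw [IsFinite.SpecMap_iff] at this
    exact RingHom.finite_algebraMap.1 this
  haveI : Module.Flat B Γ(Q, ⊤) := by
    have : Flat (Spec.map φ) := by rw [hφ]; infer_instance
    rw [Flat.SpecMap_iff] at this
    exact RingHom.flat_algebraMap_iff.1 this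
  haveI : Module.Free B Γ(Q, ⊤) := Module.free_of_flat_of_isLocalRing
  haveI : Nontrivial Γ(Q, ⊤) := by
    obtain ⟨z', -⟩ := q.surjective (IsLocalRing.closedPoint B)
    exact PrimeSpectrum.nonempty_iff_nontrivial.1 ⟨Q.isoSpec.hom z'⟩
  obtain ⟨χ⟩ := H Γ(Q, ⊤)
  let σ : Spec (CommRingCat.of B) ⟶ Q := Spec.map (CommRingCat.ofHom χ.toRingHom) ≫ Q.isoSpec.inv
  have hσ : σ ≫ q = 𝟙 _ := by
    simp only [σ, Category.assoc]
    rw [← hφ, ← Spec.map_comp, show φ ≫ CommRingCat.ofHom χ.toRingHom = 𝟙 _ from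
      CommRingCat.hom_ext (RingHom.ext fun b => χ.commutes b), Spec.map_id]
  obtain ⟨j, r, hjr⟩ := hfac k
  refine ⟨_, w j, σ ≫ pullback.fst (v k) s ≫ r ≫ pullback.fst (w j) g, hwR j, ?_⟩
  simp only [Category.assoc, pullback.condition]
  rw [reassoc_of% hjr, pullback.condition_assoc, ← Category.assoc σ, hσ, Category.id_comp, reassoc_of% hs]

theorem schFppf_of_iso {T T' : Scheme.{u}} (e : T ≅ T') (h : SchFppfLocal T) : SchFppfLocal T' := by
  intro X R hR g
  obtain ⟨Y, w, k, hw, hk⟩ := h X R hR (e.hom ≫ g)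
  exact ⟨Y, w, e.inv ≫ k, hw, by rw [Category.assoc, hk, Iso.inv_hom_id_assoc]⟩

end Groth.Agent.SigmaLocal
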