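import Groth.Agent.Lib.SigmaLocal.Algebra
import Groth.Agent.Lib.EffCartier.Dense
import Groth.Agent.Lib.BlowUp26.Basic
import Groth.Agent.Lib.BlowUpExist.Glue
import Groth.Agent.Lib.BlowUpExist.Proper
import Groth.Agent.S18735
import Mathlib.AlgebraicGeometry.ValuativeCriterion

/-!
# Modulus pairs local for coverings and admissible blow-ups
-/

set_option autoImplicit false
set_option linter.style.haveILetI false
set_option linter.unusedSectionVars false
set_option maxHeartbeats 800000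
set_option backward.isDefEq.respectTransparency false
set_option backward.isDefEq.respectTransparency.types false

universe u

open CategoryTheory CategoryTheory.Limits AlgebraicGeometry TopologicalSpace

noncomputable section

namespace Groth.Agent.SigmaLocal

/-- Locality for Zariski coverings. -/
abbrev ZarLocal (P : ModPair.Pair.{u}) : Prop :=
  ∀ (X : ModPair.Pair.{u}) (ι : Type u) (U : ι → ModPair.Pair.{u}) (v : ∀ i, U i ⟶ X),
    (∀ i, ModPair.IsMinimal (U i).mod X.mod (v i).hom ∧ IsOpenImmersion (v i).hom ∧ QuasiCompact (v i).hom) →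
    (∀ x : X.total, ∃ (i : ι) (y : (U i).total), (v i).hom.base y = x) →
    ∀ g : P ⟶ X, ∃ (i : ι) (h : P ⟶ U i), h ≫ v i = g

/-- Locality for admissible blow-ups. -/
abbrev AdmLocal (P : ModPair.Pair.{u}) : Prop :=
  ∀ (Q X : ModPair.Pair.{u}) (q : Q ⟶ X), ModPair.Pair.admBlowup q → ∀ g : P ⟶ X, ∃ h : P ⟶ Q, h ≫ q = g

/-- An open subscheme of a modulus pair. -/
def restrictPair (P : ModPair.Pair.{u}) (U : P.total.Opens) : ModPair.Pair.{u} :=
  ⟨U, P.mod.comap U.ι, BlowUp26.isEffCartierIdeal_comap_flat P.isEffCartier U.ι⟩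

/-- The inclusion of an open subscheme of a modulus pair. -/
def restrictHom (P : ModPair.Pair.{u}) (U : P.total.Opens) : restrictPair P U ⟶ P :=
  ⟨U.ι, le_of_eq rfl⟩

theorem zar_nonempty {P : ModPair.Pair.{u}} (h : ZarLocal P) : Nonempty P.total := by
  by_contra hne
  obtain ⟨i, -⟩ := h P PEmpty.{u + 1} (fun i => i.elim) (fun i => i.elim) (fun i => i.elim)
    (fun x => absurd ⟨x⟩ hne) (𝟙 P)
  exact i.elim

/-- A member of an open cover of a local pair is everything. -/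
theorem zar_exists_eq_top {P : ModPair.Pair.{u}} (h : ZarLocal P) {ι : Type u} (U : ι → P.total.Opens)
    (hU : ∀ i, QuasiCompact (U i).ι) (hcov : ∀ x, ∃ i, x ∈ U i) : ∃ i, U i = ⊤ := by
  obtain ⟨i, g, hg⟩ := h P ι (fun i => restrictPair P (U i)) (fun i => restrictHom P (U i))
    (fun i => ⟨rfl, inferInstanceAs (IsOpenImmersion (U i).ι), hU i⟩)
    (fun x => by
      obtain ⟨i, hi⟩ := hcov x
      exact ⟨i, ⟨x, hi⟩, rfl⟩) (𝟙 P)
  refine ⟨i, eq_top_iff.2 fun x _ => ?_⟩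
  have hg' : g.hom ≫ (U i).ι = 𝟙 _ := congrArg ModPair.Pair.Hom.hom hg
  have hx : (g.hom ≫ (U i).ι) x = x := by rw [hg']; rfl
  rw [← hx]
  exact (g.hom x).2

theorem zar_isAffine {P : ModPair.Pair.{u}} [QuasiSeparatedSpace P.total] (h : ZarLocal P) :
    IsAffine P.total := by
  obtain ⟨U, hU⟩ := zar_exists_eq_top h (fun U : P.total.affineOpens => U.1)
    (fun U => by haveI : IsAffine U.1.toScheme := U.2; infer_instance) (fun x => by
      obtain ⟨U, hU, hx, -⟩ := exists_isAffineOpen_mem_and_subset (X := P.total) (x := x) (U := ⊤) trivial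
      exact ⟨⟨U, hU⟩, hx⟩)
  haveI : IsAffine (⊤ : P.total.Opens).toScheme := hU ▸ U.2
  exact .of_isIso P.total.topIso.inv

theorem zar_isLocalRing {P : ModPair.Pair.{u}} [IsAffine P.total] (h : ZarLocal P) :
    IsLocalRing Γ(P.total, ⊤) := by
  haveI := zar_nonempty h
  haveI : Nonempty (Spec Γ(P.total, ⊤)) := ⟨P.total.isoSpec.hom (Classical.arbitrary _)⟩
  haveI : Nontrivial Γ(P.total, ⊤) := PrimeSpectrum.nonempty_iff_nontrivial.1 ‹Nonempty (Spec Γ(P.total, ⊤))›
  refine IsLocalRing.of_isUnit_or_isUnit_one_sub_self fun a => ?_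
  let f : ULift.{u} Bool → Γ(P.total, ⊤) := fun b => cond b.down a (1 - a)
  obtain ⟨b, hb⟩ := zar_exists_eq_top h (fun b => P.total.basicOpen (f b))
    (fun b => by
      haveI : IsAffine (P.total.basicOpen (f b)).toScheme := (isAffineOpen_top P.total).basicOpen (f b)
      infer_instance)
    (fun x => by
      have : x ∈ (⊤ : P.total.Opens) := trivial
      rw [← P.total.basicOpen_of_isUnit (isUnit_one (M := Γ(P.total, ⊤))),
        show (1 : Γ(P.total, ⊤)) = a + (1 - a) by ring] at this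
      rcases P.total.basicOpen_add_le a (1 - a) this with hx | hx
      · exact ⟨⟨true⟩, hx⟩
      · exact ⟨⟨false⟩, hx⟩)
  have hu : IsUnit (f b) := by
    rw [← Ideal.span_singleton_eq_top]
    refine (IsAffineOpen.iSup_basicOpen_eq_self_iff (isAffineOpen_top P.total) (s := {f b})).1 ?_
    rw [iSup_subtype]
    simpa using hb
  rcases b with ⟨_ | _⟩
  · exact Or.inr hu
  · exact Or.inl hu

/-- All points of a local affine scheme generalize its closed point. -/
theorem exists_closedPoint (X : Scheme.{u}) [IsAffine X] [IsLocalRing Γ(X, ⊤)] :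
    ∃ c : X, ∀ p : X, p ⤳ c := by
  refine ⟨X.isoSpec.inv (IsLocalRing.closedPoint Γ(X, ⊤)), fun p => ?_⟩
  have := (IsLocalRing.specializes_closedPoint (R := Γ(X, ⊤)) (X.isoSpec.hom p)).map X.isoSpec.inv.continuous
  rwa [← Scheme.Hom.comp_apply, X.isoSpec.hom_inv_id] at this

theorem eq_top_of_closedPoint {X : Scheme.{u}} {c : X} (hc : ∀ p : X, p ⤳ c) {U : X.Opens} (h : c ∈ U) :
    U = ⊤ :=
  eq_top_iff.2 fun p _ => (hc p).mem_open U.isOpen h

theorem zarLocal_of_local {P : ModPair.Pair.{u}} [IsAffine P.total] [IsLocalRing Γ(P.total, ⊤)] : ZarLocal P := by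
  obtain ⟨c, hc⟩ := exists_closedPoint P.total
  intro X ι U v hv hcov g
  obtain ⟨i, y, hy⟩ := hcov (g.hom c)
  haveI := (hv i).2.1
  have hr : Set.range g.hom ⊆ Set.range (v i).hom := by
    rintro _ ⟨p, rfl⟩
    exact ((hc p).map g.hom.continuous).mem_open (v i).hom.isOpenEmbedding.isOpen_range ⟨y, hy⟩
  refine ⟨i, ⟨IsOpenImmersion.lift (v i).hom g.hom hr, ?_⟩, ModPair.Pair.Hom.ext (IsOpenImmersion.lift_fac _ _ hr)⟩
  show P.mod ≤ (U i).mod.comap _
  rw [show (U i).mod = X.mod.comap (v i).hom from (hv i).1, ← Scheme.IdealSheafData.comap_comp,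
    IsOpenImmersion.lift_fac]
  exact g.cond

theorem exists_generator {X : Scheme.{u}} [IsAffine X] [IsLocalRing Γ(X, ⊤)] {I : X.IdealSheafData}
    (hI : BlowUp.IsEffCartierIdeal I) :
    ∃ t ∈ nonZeroDivisors Γ(X, ⊤), I.ideal ⟨⊤, isAffineOpen_top X⟩ = Ideal.span {t} ∧
      ModPair.interior I = X.basicOpen t := by
  obtain ⟨c, hc⟩ := exists_closedPoint X
  obtain ⟨⟨W, hW⟩, hcW, f, hf⟩ := EffCartier.isEffCartierIdeal_iff.1 hI c
  obtain rfl : W = ⊤ := eq_top_of_closedPoint hc hcW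
  refine ⟨f, hf.mem, hf.ideal_eq, ?_⟩
  rw [EffCartier.basicOpen_eq hf]
  exact (inf_top_eq (ModPair.interior I)).symm

theorem interior_away {X : Scheme.{u}} [IsAffine X] (t : Γ(X, ⊤)) (W : X.Opens) (hW : W = X.basicOpen t) :
    letI := W.ι.appTop.hom.toAlgebra
    IsAffine W.toScheme ∧ IsLocalization.Away t Γ(W.toScheme, ⊤) := by
  subst hW
  letI := (X.basicOpen t).ι.appTop.hom.toAlgebra
  refine ⟨(isAffineOpen_top X).basicOpen t, ?_⟩
  haveI := (isAffineOpen_top X).isLocalization_basicOpen t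
  let e : Γ(X, X.basicOpen t) ≃ₐ[Γ(X, ⊤)] Γ((X.basicOpen t).toScheme, ⊤) :=
    AlgEquiv.ofRingEquiv (f := (X.basicOpen t).topIso.symm.commRingCatIsoToRingEquiv) fun r => by
      show ((X.presheaf.map (homOfLE (X.basicOpen_le t)).op) ≫ (X.basicOpen t).topIso.inv) r =
        (X.basicOpen t).ι.appTop r
      rw [Scheme.Hom.appTop, Scheme.Opens.ι_app, Scheme.Opens.topIso_inv, ← Functor.map_comp]
      rfl
  exact IsLocalization.isLocalization_of_algEquiv _ e

theorem prime_closed_eq {X : Scheme.{u}} (W : X.Opens) [IsAffine W.toScheme]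
    [IsLocalRing Γ(W.toScheme, ⊤)] (p : W.toScheme) (hp : IsClosed ({p} : Set W.toScheme)) :
    (X.toSpecΓ.base (W.ι.base p)).asIdeal =
      (IsLocalRing.maximalIdeal Γ(W.toScheme, ⊤)).comap W.ι.appTop.hom := by
  haveI : IsClosed ({W.toScheme.isoSpec.hom p} : Set (Spec Γ(W.toScheme, ⊤))) := by
    have := W.toScheme.isoSpec.hom.homeomorph.isClosedMap _ hp
    rwa [Set.image_singleton] at this
  have hmax : (W.toScheme.isoSpec.hom p).asIdeal = IsLocalRing.maximalIdeal Γ(W.toScheme, ⊤) :=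
    IsLocalRing.eq_maximalIdeal ((PrimeSpectrum.isClosed_singleton_iff_isMaximal _).1 this)
  rw [← hmax]
  show ((W.ι ≫ X.toSpecΓ) p).asIdeal = _
  rw [Scheme.toSpecΓ_naturality]
  rfl

theorem exists_closed {X : Scheme.{u}} (W : X.Opens) [IsAffine W.toScheme] [IsLocalRing Γ(W.toScheme, ⊤)] :
    ∃ p : W.toScheme, IsClosed ({p} : Set W.toScheme) := by
  refine ⟨W.toScheme.isoSpec.inv (IsLocalRing.closedPoint Γ(W.toScheme, ⊤)), ?_⟩
  have h : IsClosed ({IsLocalRing.closedPoint Γ(W.toScheme, ⊤)} : Set (PrimeSpectrum Γ(W.toScheme, ⊤))) :=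
    IsLocalRing.isClosed_singleton_closedPoint _
  have := W.toScheme.isoSpec.inv.homeomorph.isClosedMap _ h
  rwa [Set.image_singleton] at this

theorem isIso_restrict_le {X Y : Scheme.{u}} (f : X ⟶ Y) {W W' : Y.Opens} (h : W ≤ W') (hf : IsIso (f ∣_ W')) :
    IsIso (f ∣_ W) := by
  have hW : W'.ι ''ᵁ (W'.ι ⁻¹ᵁ W) = W := by
    rw [Scheme.Hom.image_preimage_eq_opensRange_inf, Scheme.Opens.opensRange_ι, inf_eq_right.2 h]
  haveI := hf
  haveI : IsIso (f ∣_ W' ∣_ (W'.ι ⁻¹ᵁ W)) := inferInstance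
  have := ((MorphismProperty.isomorphisms Scheme.{u}).arrow_mk_iso_iff
    (morphismRestrictRestrict f W' (W'.ι ⁻¹ᵁ W))).1 ‹IsIso (f ∣_ W' ∣_ (W'.ι ⁻¹ᵁ W))›
  rw [hW] at this
  exact this

/-- Over a pair local for admissible blow-ups, finitely generated ideals containing a power of the equation are principal. -/
theorem principalAbove {P : ModPair.Pair.{u}} [IsAffine P.total] [IsLocalRing Γ(P.total, ⊤)] (h : AdmLocal P)
    {t : Γ(P.total, ⊤)} (hint : ModPair.interior P.mod = P.total.basicOpen t) : PrincipalAbove t := by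
  intro J hJfg ⟨n, hn⟩
  let C : P.total.IdealSheafData := Scheme.IdealSheafData.ofIdealTop J
  obtain ⟨Y, b, hb⟩ : ∃ (Y : Scheme.{u}) (b : Y ⟶ P.total), BlowUp.IsBlowUp b C :=
    ⟨_, _, BlowUpExist.ChartIdx.isBlowUp_blowUpHom⟩
  have hC : BlowUp.IsFiniteTypeIdeal C := fun U => by
    rw [Scheme.IdealSheafData.ofIdealTop_ideal]
    exact hJfg.map _
  have hle : ModPair.interior P.mod ≤ EffCartier.cmpl C := by
    rw [hint]
    intro x hx hxC
    have hxC' : x ∈ (C.support : Set P.total) := hxC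
    rw [Scheme.IdealSheafData.coe_support_ofIdealTop, Scheme.mem_zeroLocus_iff] at hxC'
    refine hxC' (t ^ n) hn ?_
    rcases n with _ | n
    · rw [pow_zero, P.total.basicOpen_of_isUnit isUnit_one]
      trivial
    · rwa [P.total.basicOpen_pow _ (Nat.succ_pos n)]
  let Q : ModPair.Pair.{u} := ⟨Y, P.mod.comap b, BlowUp26.isEffCartierIdeal_comap_blowUp hb P.isEffCartier⟩
  let q : Q ⟶ P := ⟨b, le_of_eq rfl⟩
  obtain ⟨s, hs⟩ := h Q P q ⟨rfl, BlowUpExist.isProper hC hb,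
    isIso_restrict_le b hle (EffCartier.isIso_blowUp_restrict hb)⟩ (𝟙 P)
  have hs' : s.hom ≫ b = 𝟙 _ := congrArg ModPair.Pair.Hom.hom hs
  have hC' : C = (C.comap b).comap s.hom := by
    rw [← Scheme.IdealSheafData.comap_comp, hs', Scheme.IdealSheafData.comap_id]
  obtain ⟨c, hc⟩ := exists_closedPoint P.total
  obtain ⟨V, hcV, f, hf⟩ := EffCartier.isEffCartierIdeal_iff.1 hb.1 (s.hom c)
  have hV : s.hom ⁻¹ᵁ V.1 = ⊤ := eq_top_of_closedPoint hc hcV
  refine ⟨(s.hom.appLE V.1 ⊤ hV.ge) f, ?_⟩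
  have := EffCartier.comap_ideal_eq_span hf s.hom ⟨⊤, isAffineOpen_top P.total⟩ hV.ge
  rw [← hC', Scheme.IdealSheafData.ofIdealTop_ideal] at this
  rw [← this]
  simp

/-- A proper morphism which is an isomorphism over the interior has a section. -/
theorem exists_section {X : Scheme.{u}} [IsAffine X] [IsLocalRing Γ(X, ⊤)] {t : Γ(X, ⊤)}
    (ht : t ∈ nonZeroDivisors Γ(X, ⊤)) (W : X.Opens) (hW : W = X.basicOpen t) [IsLocalRing Γ(W.toScheme, ⊤)]
    (hval : letI := W.ι.appTop.hom.toAlgebra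
      haveI : (cl (A := Γ(X, ⊤)) Γ(W.toScheme, ⊤)).IsPrime := Ideal.comap_isPrime _ _
      ValuationRing (Γ(X, ⊤) ⧸ cl (A := Γ(X, ⊤)) Γ(W.toScheme, ⊤)))
    (hdiv : letI := W.ι.appTop.hom.toAlgebra
      ∀ x s : Γ(X, ⊤), x ∈ cl Γ(W.toScheme, ⊤) → s ∉ cl Γ(W.toScheme, ⊤) → ∃ y ∈ cl Γ(W.toScheme, ⊤), x = s * y)
    {M : Scheme.{u}} (π : M ⟶ X) [IsProper π] (hπ : IsIso (π ∣_ W)) : ∃ s : X ⟶ M, s ≫ π = 𝟙 X := by
  letI := W.ι.appTop.hom.toAlgebra
  let A := Γ(X, ⊤)
  let B := Γ(W.toScheme, ⊤)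
  obtain ⟨hWa, hloc⟩ := interior_away t W hW
  haveI := hWa
  haveI := hloc
  haveI hprime : (cl (A := A) B).IsPrime := Ideal.comap_isPrime _ _
  haveI := hval
  haveI := hπ
  let R := A ⧸ cl (A := A) B
  let K := FractionRing R
  let χ : A →+* K := (algebraMap R K).comp (Ideal.Quotient.mk _)
  have htu : IsUnit (χ t) := by
    have : t ∉ cl (A := A) B := by
      rw [mem_cl, not_not]
      exact IsLocalization.Away.algebraMap_isUnit t
    refine isUnit_iff_ne_zero.2 fun h0 => this ?_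
    rw [← Ideal.Quotient.eq_zero_iff_mem]
    exact IsFractionRing.injective R K (h0.trans (map_zero _).symm)
  let g : B →+* K := IsLocalization.Away.lift t htu
  have hg : χ = g.comp (algebraMap A B) := (IsLocalization.Away.lift_comp t htu).symm
  let σ : Spec (CommRingCat.of B) ⟶ M := W.toScheme.isoSpec.inv ≫ inv (π ∣_ W) ≫ (π ⁻¹ᵁ W).ι
  have hσ : σ ≫ π = W.toScheme.isoSpec.inv ≫ W.ι := by
    simp only [σ, Category.assoc, ← morphismRestrict_ι, IsIso.inv_hom_id_assoc]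
  have hWι : W.toScheme.isoSpec.inv ≫ W.ι = Spec.map W.ι.appTop ≫ X.isoSpec.inv := by
    rw [Iso.inv_comp_eq, ← Category.assoc, Iso.eq_comp_inv]
    exact Scheme.toSpecΓ_naturality W.ι
  let i₁ : Spec (CommRingCat.of K) ⟶ M := Spec.map (CommRingCat.ofHom g) ≫ σ
  let i₂ : Spec (CommRingCat.of R) ⟶ X := Spec.map (CommRingCat.ofHom (Ideal.Quotient.mk _)) ≫ X.isoSpec.inv
  have hsq : CommSq i₁ (Spec.map (CommRingCat.ofHom (algebraMap R K))) π i₂ := ⟨by
    simp only [i₁, i₂, Category.assoc, hσ, hWι]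
    rw [← Spec.map_comp_assoc, ← Spec.map_comp_assoc]
    congr 2
    exact CommRingCat.hom_ext hg.symm⟩
  have hex : ValuativeCriterion.Existence π := by
    have h1 : UniversallyClosed π := inferInstance
    rw [UniversallyClosed.eq_valuativeCriterion] at h1
    exact h1.1
  obtain ⟨⟨ℓ, hℓ₁, hℓ₂⟩⟩ := (hex ⟨R, K, i₁, i₂, hsq⟩).exists_lift
  obtain ⟨V, hV, hyV, -⟩ := exists_isAffineOpen_mem_and_subset (X := M)
    (x := ℓ (IsLocalRing.closedPoint R)) (U := ⊤) trivial
  have hℓV : ℓ ⁻¹ᵁ V = ⊤ := eq_top_iff.2 fun x _ => by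
    exact (IsLocalRing.specializes_closedPoint (R := R) x).mem_open (ℓ ⁻¹ᵁ V).isOpen hyV
  have hKB : Spec.map (CommRingCat.ofHom g) (IsLocalRing.closedPoint K) = IsLocalRing.closedPoint B := by
    refine PrimeSpectrum.ext (IsLocalRing.eq_maximalIdeal ?_)
    refine Ideal.isMaximal_iff.2 ⟨fun h1 => ?_, fun J x hJ hx hxJ => ?_⟩
    · refine (IsLocalRing.closedPoint K).isPrime.ne_top ((Ideal.eq_top_iff_one _).2 ?_)
      have h2 : g 1 ∈ (IsLocalRing.closedPoint K).asIdeal := h1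
      rwa [map_one] at h2
    · have hxg : g x ≠ 0 := fun h0 => hx (by
        show g x ∈ IsLocalRing.maximalIdeal K
        rw [h0]; exact zero_mem _)
      obtain ⟨⟨a, m⟩, ha⟩ := IsLocalization.surj (Submonoid.powers t) x
      have ha' : a ∉ cl (A := A) B := fun hmem => hxg (by
        have h2 : χ a = 0 := by
          show algebraMap R K (Ideal.Quotient.mk _ a) = 0
          rw [Ideal.Quotient.eq_zero_iff_mem.2 hmem, map_zero]
        rw [hg, RingHom.comp_apply, ← ha, map_mul, mul_eq_zero] at h2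
        exact h2.resolve_right ((IsLocalization.map_units B m).map g).ne_zero)
      rw [mem_cl, not_not, ← ha] at ha'
      have := isUnit_of_mul_isUnit_left ha'
      rw [J.eq_top_of_isUnit_mem hxJ this]
      trivial
  have hσV : σ ⁻¹ᵁ V = ⊤ := eq_top_iff.2 fun x _ => by
    refine (IsLocalRing.specializes_closedPoint (R := B) x).mem_open (σ ⁻¹ᵁ V).isOpen ?_
    rw [← hKB]
    show (Spec.map (CommRingCat.ofHom g) ≫ σ) (IsLocalRing.closedPoint K) ∈ V
    have h1 : i₁ (IsLocalRing.closedPoint K) = ℓ (Spec.map (CommRingCat.ofHom (algebraMap R K)) (IsLocalRing.closedPoint K)) := by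
      rw [← Scheme.Hom.comp_apply, hℓ₁]
    rw [h1]
    exact (hℓV.ge trivial)
  have rV : Set.range V.ι = (V : Set M) := Scheme.Opens.range_ι V
  let ℓ' : Spec (CommRingCat.of R) ⟶ Spec Γ(M, V) := IsOpenImmersion.lift hV.fromSpec ℓ (by
    rintro _ ⟨x, rfl⟩
    rw [hV.range_fromSpec]
    exact hℓV.ge trivial)
  let σ' : Spec (CommRingCat.of B) ⟶ Spec Γ(M, V) := IsOpenImmersion.lift hV.fromSpec σ (by
    rintro _ ⟨x, rfl⟩
    rw [hV.range_fromSpec]
    exact hσV.ge trivial)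
  obtain ⟨φ, hφ⟩ := Spec.map_surjective ℓ'
  obtain ⟨ψ, hψ⟩ := Spec.map_surjective σ'
  have hcompat : φ ≫ CommRingCat.ofHom (algebraMap R K) = ψ ≫ CommRingCat.ofHom g := Spec.map_injective (by
    rw [Spec.map_comp, Spec.map_comp, hφ, hψ, ← cancel_mono hV.fromSpec]
    simp only [ℓ', σ', Category.assoc, IsOpenImmersion.lift_fac]
    exact hℓ₁.trans rfl)
  obtain ⟨θ, hθ⟩ := exists_lift_glue B ht hdiv (algebraMap R K) g hg (IsFractionRing.injective R K) φ.hom ψ.hom
    (congrArg CommRingCat.Hom.hom hcompat)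
  let s : X ⟶ M := X.isoSpec.hom ≫ Spec.map (CommRingCat.ofHom θ) ≫ hV.fromSpec
  refine ⟨s, ext_of_isAffine ?_⟩
  have hWs : W.ι ≫ s = W.toScheme.isoSpec.hom ≫ σ := by
    have e1 : W.ι ≫ X.isoSpec.hom = W.toScheme.isoSpec.hom ≫ Spec.map W.ι.appTop :=
      Scheme.toSpecΓ_naturality W.ι
    simp only [s, reassoc_of% e1]
    rw [← Spec.map_comp_assoc, show CommRingCat.ofHom θ ≫ W.ι.appTop = ψ from CommRingCat.hom_ext hθ, hψ]
    simp only [σ', IsOpenImmersion.lift_fac]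
  have hid : W.ι ≫ s ≫ π = W.ι := by
    rw [reassoc_of% hWs, hσ, Iso.hom_inv_id_assoc]
  have inj := IsLocalization.injective B (M := Submonoid.powers t) (Submonoid.powers_le.2 ht)
  ext r
  refine inj ?_
  show ((s ≫ π).appTop ≫ W.ι.appTop) r = ((𝟙 X : X ⟶ X).appTop ≫ W.ι.appTop) r
  rw [← Scheme.Hom.comp_appTop, ← Scheme.Hom.comp_appTop, hid, Category.comp_id]

theorem admLocal_of_glue {P : ModPair.Pair.{u}} [IsAffine P.total] [IsLocalRing Γ(P.total, ⊤)]
    {t : Γ(P.total, ⊤)} (ht : t ∈ nonZeroDivisors Γ(P.total, ⊤))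
    (hint : ModPair.interior P.mod = P.total.basicOpen t) [IsLocalRing Γ((ModPair.interior P.mod).toScheme, ⊤)]
    (hval : letI := (ModPair.interior P.mod).ι.appTop.hom.toAlgebra
      haveI : (cl (A := Γ(P.total, ⊤)) Γ((ModPair.interior P.mod).toScheme, ⊤)).IsPrime := Ideal.comap_isPrime _ _
      ValuationRing (Γ(P.total, ⊤) ⧸ cl (A := Γ(P.total, ⊤)) Γ((ModPair.interior P.mod).toScheme, ⊤)))
    (hdiv : letI := (ModPair.interior P.mod).ι.appTop.hom.toAlgebra
      ∀ x s : Γ(P.total, ⊤), x ∈ cl Γ((ModPair.interior P.mod).toScheme, ⊤) →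
        s ∉ cl Γ((ModPair.interior P.mod).toScheme, ⊤) →
        ∃ y ∈ cl Γ((ModPair.interior P.mod).toScheme, ⊤), x = s * y) : AdmLocal P := by
  intro Q X q hq g
  obtain ⟨-, ⟨-, hp, hi⟩, hamb⟩ := Groth.Agent.S18735.result X.mod P.mod Q.mod X.isEffCartier P.isEffCartier
    Q.isEffCartier g.hom g.cond q.hom hq
  haveI := hp
  obtain ⟨σ, hσ⟩ := exists_section ht (ModPair.interior P.mod) hint hval hdiv _ hi
  refine ⟨⟨σ ≫ ModPair.mprodι q.hom g.hom Q.mod P.mod ≫ pullback.fst q.hom g.hom, ?_⟩, ModPair.Pair.Hom.ext ?_⟩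
  · show P.mod ≤ Q.mod.comap _
    have : (P.mod.comap _).comap σ ≤ (Q.mod.comap _).comap σ := Scheme.IdealSheafData.comap_mono σ hamb
    rw [← Scheme.IdealSheafData.comap_comp, hσ, Scheme.IdealSheafData.comap_id,
      ← Scheme.IdealSheafData.comap_comp] at this
    exact this
  · show (σ ≫ _ ≫ pullback.fst q.hom g.hom) ≫ q.hom = g.hom
    simp only [Category.assoc, pullback.condition]
    rw [reassoc_of% hσ]

end Groth.Agent.SigmaLocal
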